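import Cfsg.Agent.Mrg.Omega.NO3S.BetaFF.UniqZ
import Cfsg.Agent.Mrg.Omega.NO3S.Fld.TI
import Cfsg.Agent.Mrg.Omega.NO3S.ThmB.Main


/-!
# THEOREM BETA-FF(1) (helper284 #19171): the frame `FrB` for a natural line without fields, moved by a `W_F ≤ S`

* `Fr.frB` : `HypN S P`, the frame, `|Z| = |K| > 2`, all lines of `P*(S)` in `V` and `P*(S) ≤ N(V)`,
  `Ω₁(Z(O₂(P))) ≤ V` ⟹ `FrB K S P M.B M.R`;
* `frB_lev` : the same at a level `K₀ ≤ O₂(R)` for all `R ∈ P*(S)`, `V = Ω₁(Z(K₀))`, `W_F ≤ S`, `W_F ≰ O₂(P)`.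
-/

set_option autoImplicit false
set_option linter.unusedVariables false

namespace Cfsg.Agent.Omega.BetaFF

open Subgroup Cfsg Cfsg.Agent.Omega.NOne.Flat Cfsg.Agent.Omega.NO3S.Fld Cfsg.Agent.Omega.MinPar
open Cfsg.Agent.ZN (o2 zl zc)
open Cfsg.Agent.MinSimple.VModule (zc_le zc_le_zl zl_le le_o2 le_normalizer_zl le_normalizer_o2 oddGen oddGen_le)
open Cfsg.Agent.Omega.FFThm (OffM NoOverM StmtM)
open Cfsg.Agent.Omega.FrameNOFF (CZ)
open Cfsg.Agent.Omega.NO3S (HypN Uniq FrB)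
open Cfsg.Agent.Omega.NO3S.Level
open scoped Pointwise

universe u

variable {G : Type u} [Group G] [Finite G] {S : Sylow 2 G} {P Q V F : Subgroup G}

/-- The frame `FrB` from `Uniq S P` and (T6), no fields. -/
theorem frB_of_uniq (h : HypN S P) {K : Type} [Field K] [Finite K] [CharP K 2]
    (M : Crd K (S : Subgroup G) P (zl (S : Subgroup G) P)) (hZ : Nat.card (zc (S : Subgroup G)) = Nat.card K)
    (hu : Uniq (S : Subgroup G) P) (hT6 : zc (o2 P) = zl (S : Subgroup G) P) : FrB K S P M.B M.R := by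
  have hR : M.R = zc (S : Subgroup G) := by
    refine (Subgroup.eq_of_le_of_card_ge (fun z hz => ?_) (by rw [M.card_R, hZ])).symm
    exact M.mem_R_of_comm (zc_le_zl _ _ hz) fun b hb _ => (ZN.mem_zc.1 hz).2.1 b hb
  have hB : M.B = (S : Subgroup G) := by
    refine le_antisymm inf_le_left (le_inf le_rfl ?_)
    rw [hR]
    intro s hs
    rw [mem_centralizer_iff]
    exact fun z hz => ((ZN.mem_zc.1 hz).2.1 s hs).symm
  have hNS : normalizer ((S : Subgroup G) : Set G) ≤ normalizer (M.R : Set G) := by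
    rw [hR]
    exact NO3S.Level.normalizer_le_zc _
  have hCZ : CZ (S : Subgroup G) ≤ normalizer (M.R : Set G) := by
    rw [hR]
    exact centralizer_le_normalizer _
  refine ⟨pb' h.toHyp M hNS ?_ (fun R hR' => Or.inr (hu.cen R hR')) hCZ, omB_of' h.toHyp M hT6, M.card_R,
    fun Q hQ => Or.inr (hu.eq Q hQ)⟩
  rw [hB]
  exact hu.ns h.star

/-- **THEOREM BETA-FF(1)**: the frame `FrB`. -/
theorem Fr.frB (hFF : StmtM.{u}) (h : HypN S P) {K : Type} [Field K] [Finite K] [CharP K 2]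
    (fr : Fr K S P V F (zl (S : Subgroup G) P) (UU (S : Subgroup G))) (hK : 2 < Nat.card K)
    (hZ : Nat.card (zc (S : Subgroup G)) = Nat.card K)
    (hall : ∀ R, IsParS (S : Subgroup G) R → R ≤ normalizer (V : Set G) ∧ zl (S : Subgroup G) R ≤ V)
    (hzo : zc (o2 P) ≤ V) : FrB K S P fr.M.B fr.M.R :=
  frB_of_uniq h fr.M hZ
    (fr.toUniq hFF h.ctx.char2 h.star hK hZ (nOff h) hall fun R hR => zl_le_UU hR)
    (fr.zc_o2 hFF h.ctx.char2 h.star hzo)

/-- **THEOREM BETA-FF(1), at a level** `K₀ ≤ O₂(R)` for all `R ∈ P*(S)`. -/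
theorem frB_lev (hFF : StmtM.{u}) (h : HypN S P) {K₀ : Subgroup G} (hL : Lev (S : Subgroup G) K₀)
    (hpar : ∀ R, IsParS (S : Subgroup G) R → K₀ ≤ o2 R) (hf : NOne.Flat.Hyp (zc K₀) F)
    (hW : WW (zc K₀) F ≤ (S : Subgroup G)) (hm : ¬ WW (zc K₀) F ≤ o2 P) {K : Type} [Field K] [Finite K] [CharP K 2]
    (M : Crd K (S : Subgroup G) P (zl (S : Subgroup G) P)) (hK : 2 < Nat.card K)
    (hZ : Nat.card (zc (S : Subgroup G)) = Nat.card K) : FrB K S P M.B M.R := by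
  have hG := h.ctx.char2
  have hall : ∀ R, IsParS (S : Subgroup G) R → R ≤ normalizer ((zc K₀ : Subgroup G) : Set G) ∧ zc (o2 R) ≤ zc K₀ :=
    fun R hR => ⟨(hL.le_norm_of_o2 (hpar R hR) (hR.isLoc.o2_le S)).trans (NO3S.Level.normalizer_le_zc K₀),
      hL.zc_o2_le (hpar R hR) (hR.isLoc.o2_le S)⟩
  obtain ⟨fr, rfl⟩ := exists_fr h hf (hall P h.star).1 ((h.star.isLoc.zl_le S hG).trans (hall P h.star).2) hW hm M
  exact fr.frB hFF h hK hZ (fun R hR => ⟨(hall R hR).1, (hR.isLoc.zl_le S hG).trans (hall R hR).2⟩)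
    (hall P h.star).2

end Cfsg.Agent.Omega.BetaFF
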