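import Cfsg.Agent.Mrg.Omega.Spread.ElatOf
import Cfsg.Agent.Mrg.Omega.NOne.Flat.Conj
import Cfsg.Agent.Mrg.Omega.NOThreeL.VF.EqNat
import Cfsg.Agent.Mrg.Omega.NOThreeL.VF.Core
import Cfsg.Agent.Mrg.Omega.NOThreeL.VF.Base


/-!
# GammaFF, BETA for FF lines: the active types, all FF modules (helper284 #19509 (0))

`Act S P V F` : `P ∈ P*(S)` with `C_L(O²(P)) = 1`, `L = V_P ≤ V`; `Flat.Hyp V F`, `P` normalises `V`, `W = WW V F ≤ S`
moves `L`, `L ≤ E = EE V F`, and `[L, L^x] = 1` for `x ∈ C_G(F)`.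

* `offM` : `W` offends on `L`;
* `exact` : `|W : C_W(L)| = |L : C_L(W)|`;
* `cent_EB` : `C_E(C_W(L)) = L F`; `not_BB_le` : `C_W(L) ≰ N`; `cent_VB` : `C_V(C_W(L)) = L F`;
* `cent_VQ` : `C_V(O₂(P)) = L`.
-/

set_option autoImplicit false
set_option linter.unusedSectionVars false

namespace Cfsg.Agent.Omega.NO3S.BetaFF

open Subgroup Cfsg Cfsg.Agent.ZN Cfsg.Agent.Omega.MinPar Cfsg.Agent.Omega.FFThm
open Cfsg.Agent.Omega.NOne
open Cfsg.Agent.Omega.NOne.NearFF (c c_def)
open Cfsg.Agent.Omega.FrameFF (cv)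
open Cfsg.Agent.ZN.ChoiceSit (Syl)
open scoped Pointwise

universe u

variable {G : Type u} [Group G] [Finite G]

theorem rne (H K : Subgroup G) : H.relIndex K ≠ 0 := index_ne_zero_of_finite

/-- The situation: `W_F ≤ S` moves the FF line `V_P ≤ E_F`. -/
structure Act (S : Sylow 2 G) (P V F : Subgroup G) : Prop where
  char2 : IsCharacteristicTwoType G
  par : IsParS (S : Subgroup G) P
  cv : cv (S : Subgroup G) P = ⊥
  hyp : Flat.Hyp V F
  PV : P ≤ normalizer (V : Set G)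
  LE : zl (S : Subgroup G) P ≤ Flat.EE V F
  WS : Flat.WW V F ≤ (S : Subgroup G)
  mov : ¬ Flat.WW V F ≤ centralizer (zl (S : Subgroup G) P : Set G)
  lines : ∀ x ∈ centralizer (F : Set G),
    zl (S : Subgroup G) P ≤ centralizer ((MulAut.conj x • zl (S : Subgroup G) P : Subgroup G) : Set G)

/-- `B1 = C_W(L)` -/
abbrev BB (V F L : Subgroup G) : Subgroup G := Flat.WW V F ⊓ centralizer (L : Set G)

namespace Act

variable {S : Sylow 2 G} {P V F : Subgroup G} (h : Act S P V F)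
include h

theorem SP : (S : Subgroup G) ≤ P := h.par.le

theorem WP : Flat.WW V F ≤ P := h.WS.trans h.SP

theorem LV : zl (S : Subgroup G) P ≤ V := h.LE.trans inf_le_left

theorem PL : P ≤ normalizer (zl (S : Subgroup G) P : Set G) := le_normalizer_zl _ _

theorem elemM : ElemM (zl (S : Subgroup G) P) (Flat.WW V F) := by
  have h1 := h.hyp.elemM_W
  exact ⟨fun a ha => centralizer_le h.LV (h1.sq a ha), fun a ha b hb => centralizer_le h.LV (h1.comm a ha b hb)⟩

/-- `W` is an offender on `L`. -/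
theorem offM : OffM (zl (S : Subgroup G) P) (Flat.WW V F) where
  toElemM := h.elemM
  ne := h.mov
  le := relIndex_le_iff.2 (h.hyp.off_of_le_all h.LE)

theorem ff (hFF : StmtM.{u}) : NoOverM (zl (S : Subgroup G) P) P ∧ ConclM (S : Subgroup G) P :=
  hFF G S P (syl_of_sylow S h.SP) h.par.toIsMinPar (h.par.isLoc.char2 S h.char2) ⟨_, h.WP, h.offM⟩

/-- `W` is an exact offender. -/
theorem exact (hFF : StmtM.{u}) : (centralizer (zl (S : Subgroup G) P : Set G)).relIndex (Flat.WW V F) =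
    (centralizer (Flat.WW V F : Set G)).relIndex (zl (S : Subgroup G) P) := by
  apply le_antisymm
  · have h1 := (h.ff hFF).1 _ h.WP h.elemM
    exact relIndex_le_iff.1 h1
  · exact h.hyp.off_of_le_all h.LE

/-- `C_L(W) = L ∩ F` -/
theorem inf_cent : zl (S : Subgroup G) P ⊓ centralizer (Flat.WW V F : Set G) = zl (S : Subgroup G) P ⊓ F := by
  apply le_antisymm
  · rintro x ⟨h1, h2⟩
    refine ⟨h1, ?_⟩
    have h3 : x ∈ V ⊓ centralizer (Flat.WW V F : Set G) := ⟨h.LV h1, h2⟩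
    rwa [h.hyp.cent_VW] at h3
  · rintro x ⟨h1, h2⟩
    refine ⟨h1, ?_⟩
    have h3 : x ∈ V ⊓ centralizer (Flat.WW V F : Set G) := by
      rw [h.hyp.cent_VW]; exact h2
    exact h3.2

theorem relIndex_F : (centralizer (Flat.WW V F : Set G)).relIndex (zl (S : Subgroup G) P) =
    F.relIndex (zl (S : Subgroup G) P) := by
  rw [← inf_relIndex_left, h.inf_cent, inf_relIndex_left]

theorem BB_comm_F {b f : G} (hb : b ∈ Flat.WW V F) (hf : f ∈ F) : b * f = f * b :=
  (Flat.Hyp.F_comm hf (Flat.Hyp.W_le_X hb)).symm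

/-- **(0)** `C_E(C_W(L)) = L F` -/
theorem cent_EB (hFF : StmtM.{u}) :
    Flat.EE V F ⊓ centralizer (BB V F (zl (S : Subgroup G) P) : Set G) = zl (S : Subgroup G) P ⊔ F := by
  set L := zl (S : Subgroup G) P with hL
  set E0 : Subgroup G := Flat.EE V F ⊓ centralizer (BB V F L : Set G) with hE0
  have hFE : F ≤ E0 := by
    refine le_inf h.hyp.F_le_E fun f hf => mem_centralizer_iff.2 fun b hb => ?_
    exact h.BB_comm_F hb.1 hf
  have hLE : L ≤ E0 := by
    refine le_inf h.LE fun l hl => mem_centralizer_iff.2 fun b hb => ?_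
    exact (mem_centralizer_iff.1 hb.2 l hl).symm
  have hsup : L ⊔ F ≤ E0 := sup_le hLE hFE
  refine (le_antisymm hsup ?_).symm
  have h1 : F.relIndex E0 ≤ F.relIndex L := by
    have h2 := h.hyp.off_all hFE inf_le_left
    have h3 : (centralizer (E0 : Set G)).relIndex (Flat.WW V F) ≤ (centralizer (L : Set G)).relIndex (Flat.WW V F) := by
      rw [← inf_relIndex_right (centralizer (L : Set G)), ← inf_relIndex_right (centralizer (E0 : Set G))]
      refine relIndex_le_of_le_left ?_ (rne _ _)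
      rintro b ⟨hb1, hb2⟩
      exact ⟨mem_centralizer_iff.2 fun e he => (mem_centralizer_iff.1 he.2 b ⟨hb2, hb1⟩).symm, hb2⟩
    rw [h.exact hFF, h.relIndex_F] at h3
    exact h2.trans h3
  have h2 : F.relIndex (L ⊔ F) * (L ⊔ F).relIndex E0 = F.relIndex E0 := relIndex_mul_relIndex _ _ _ le_sup_right hsup
  have h3 : F.relIndex L ≤ F.relIndex (L ⊔ F) := relIndex_le_of_le_right le_sup_left (rne _ _)
  have h4 := Nat.pos_of_ne_zero (rne F L)
  have h5 : (L ⊔ F).relIndex E0 ≤ 1 := by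
    by_contra hcon
    push Not at hcon
    have h6 := Nat.mul_le_mul h3 hcon
    omega
  have h6 := rne (L ⊔ F) E0
  exact relIndex_eq_one.1 (by omega)

/-- **(0)** `C_W(L) ≰ N` -/
theorem not_BB_le (hFF : StmtM.{u}) : ¬ BB V F (zl (S : Subgroup G) P) ≤ Flat.NN V F := by
  set L := zl (S : Subgroup G) P with hL
  intro hcon
  -- `E = L F`
  have h1 : Flat.EE V F ≤ L ⊔ F := by
    rw [← h.cent_EB hFF]
    refine le_inf le_rfl fun e he => mem_centralizer_iff.2 fun b hb => ?_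
    exact (mem_centralizer_iff.1 (hcon hb).2 e he).symm
  obtain ⟨w, hw, hwE⟩ := h.hyp.exists_not_mem
  obtain ⟨x, hx, hb, -, -⟩ := h.hyp.exists_near hw hwE
  apply h.mov
  intro s hs
  obtain ⟨f, hf, hfn⟩ := h.hyp.exists_conjE_mul hx hb hs
  have e : s = f * (f⁻¹ * s) := by group
  rw [e]
  refine mul_mem ?_ (centralizer_le h.LE hfn.2)
  -- `f ∈ (L F)^x`
  have h2 : MulAut.conj x • Flat.EE V F ≤ MulAut.conj x • (L ⊔ F) := Cfsg.Agent.Omega.NoFF.Basic.conj_le_iff.2 h1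
  have h3 : MulAut.conj x • (L ⊔ F) = MulAut.conj x • L ⊔ MulAut.conj x • F := smul_sup _ _ _
  rw [h3, Flat.conj_eq_of_cent hx] at h2
  have h4 : MulAut.conj x • L ⊔ F ≤ centralizer (L : Set G) := by
    refine sup_le ?_ ?_
    · exact le_centralizer_iff.1 (h.lines x hx)
    · exact (h.hyp.comm.trans (centralizer_le h.LV)).trans' h.hyp.F_le_V
  exact h4 (h2 hf)

/-- **(0)** `C_V(C_W(L)) = L F` -/
theorem cent_VB (hFF : StmtM.{u}) :
    V ⊓ centralizer (BB V F (zl (S : Subgroup G) P) : Set G) = zl (S : Subgroup G) P ⊔ F := by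
  rw [← h.cent_EB hFF]
  refine le_antisymm (fun v hv => ⟨?_, hv.2⟩) (inf_le_inf_right _ inf_le_left)
  by_contra hvE
  apply h.not_BB_le hFF
  intro b hb
  rw [← h.hyp.c_mem_F_iff hv.1 hvE hb.1, c_def]
  have h1 := mem_centralizer_iff.1 hv.2 b hb
  rw [← h1, mul_inv_cancel_right, mul_inv_cancel]
  exact one_mem _

/-! ### `C_V(O₂(P)) = L` -/

theorem o2_eq : (S : Subgroup G) ⊓ centralizer (zl (S : Subgroup G) P : Set G) = o2 P :=
  h.par.inf_centralizer S h.char2

theorem BB_le_o2 : BB V F (zl (S : Subgroup G) P) ≤ o2 P := by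
  rw [← h.o2_eq]
  exact inf_le_inf_right _ h.WS

theorem L_le_zc : zl (S : Subgroup G) P ≤ zc (o2 P) := h.par.isLoc.zl_le S h.char2

/-- `C_V(O₂(P))` -/
abbrev CQ (P V : Subgroup G) : Subgroup G := V ⊓ centralizer (o2 P : Set G)

theorem L_le_CQ : zl (S : Subgroup G) P ≤ CQ P V :=
  le_inf h.LV fun _ hl => mem_centralizer_iff.2 fun q hq => ((mem_zc.1 (h.L_le_zc hl)).2.1 q hq)

theorem CQ_le (hFF : StmtM.{u}) : CQ P V ≤ zl (S : Subgroup G) P ⊔ F := by
  rw [← h.cent_VB hFF]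
  exact inf_le_inf_left _ (centralizer_le h.BB_le_o2)

theorem CQ_le_EE (hFF : StmtM.{u}) : CQ P V ≤ Flat.EE V F := by
  refine (h.CQ_le hFF).trans ?_
  rw [← h.cent_EB hFF]
  exact inf_le_left

theorem P_norm_CQ : P ≤ normalizer (CQ P V : Set G) := by
  intro g hg
  have h1 := h.PV hg
  have h2 : g ∈ normalizer (centralizer (o2 P : Set G) : Set G) :=
    Flat.normalizer_le_normalizer_centralizer _ (le_normalizer_o2 P hg)
  rw [mem_normalizer_iff] at h1 h2 ⊢
  intro x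
  exact and_congr (h1 x) (h2 x)

/-- an element of `P` which centralises `L` and whose square centralises `C_V(Q)` centralises `C_V(Q)` -/
theorem cent_of_sq {x : G} (hx : x ∈ P) (hxL : x ∈ centralizer (zl (S : Subgroup G) P : Set G))
    (hsq : x ^ 2 ∈ centralizer (CQ P V : Set G)) : x ∈ centralizer (CQ P V : Set G) := by
  obtain ⟨a, m, hm, ho⟩ : ∃ a m : ℕ, Odd m ∧ orderOf x = 2 ^ a * m := by
    obtain ⟨a, m, hm, ho⟩ := Nat.exists_eq_two_pow_mul_odd (orderOf_pos x).ne'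
    exact ⟨a, m, hm, ho⟩
  -- `x ^ m` is a 2-element
  have hpm : (x ^ m) ^ 2 ^ a = 1 := by rw [← pow_mul, mul_comm, ← ho, pow_orderOf_eq_one]
  have hm2 : x ^ m ∈ o2 P := by
    have hp : IsPGroup 2 (zpowers (x ^ m)) := by
      intro y
      obtain ⟨n, hn⟩ := mem_zpowers_iff.1 y.2
      refine ⟨a, Subtype.ext ?_⟩
      rw [SubgroupClass.coe_pow, ← hn, ← zpow_natCast, ← zpow_mul, mul_comm, zpow_mul, zpow_natCast, hpm, one_zpow]
      rfl
    obtain ⟨g, hg, h1⟩ := NOThreeL.VF.exists_conj_le S h.SP hp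
      (by rw [zpowers_le]; exact pow_mem hx m)
    have h2 := h1 _ (mem_zpowers _)
    have h3 : g * x ^ m * g⁻¹ ∈ o2 P := by
      rw [← h.o2_eq]
      refine ⟨h2, ?_⟩
      have h4 : g ∈ normalizer (centralizer (zl (S : Subgroup G) P : Set G) : Set G) :=
        Flat.normalizer_le_normalizer_centralizer _ (h.PL hg)
      exact (mem_normalizer_iff.1 h4 _).1 (pow_mem hxL m)
    exact (mem_normalizer_iff.1 (le_normalizer_o2 P hg) _).2 h3
  have h1 : x ^ m ∈ centralizer (CQ P V : Set G) := by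
    rw [mem_centralizer_iff]
    intro y hy
    exact (mem_centralizer_iff.1 hy.2 _ hm2).symm
  obtain ⟨j, hj⟩ := hm
  have e : x = x ^ m * ((x ^ 2) ^ j)⁻¹ := by
    rw [hj, ← pow_mul, pow_succ', mul_inv_cancel_right]
  rw [e]
  exact mul_mem h1 (inv_mem (pow_mem hsq j))

/-- no over-offender on `C_V(Q)` -/
theorem noOver_CQ (hFF : StmtM.{u}) : NoOverM (CQ P V) P := by
  intro A hA hE
  have hEL : ElemM (zl (S : Subgroup G) P) A :=
    ⟨fun a ha => centralizer_le h.L_le_CQ (hE.sq a ha), fun a ha b hb => centralizer_le h.L_le_CQ (hE.comm a ha b hb)⟩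
  have h1 := (h.ff hFF).1 A hA hEL
  rw [relIndex_le_iff] at h1 ⊢
  have h2 : (centralizer (CQ P V : Set G)).relIndex A = (centralizer (zl (S : Subgroup G) P : Set G)).relIndex A := by
    rw [← inf_relIndex_right (centralizer (CQ P V : Set G)),
      ← inf_relIndex_right (centralizer (zl (S : Subgroup G) P : Set G))]
    congr 1
    refine le_antisymm (inf_le_inf_right _ (centralizer_le h.L_le_CQ)) fun x hx => ⟨?_, hx.2⟩
    exact h.cent_of_sq (hA hx.2) hx.1 (hE.sq x hx.2)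
  rw [h2]
  exact h1.trans (relIndex_le_of_le_right h.L_le_CQ (rne _ _))

/-- **(0)** `C_V(O₂(P)) = L`. -/
theorem cent_VQ (hFF : StmtM.{u}) : CQ P V = zl (S : Subgroup G) P := by
  refine le_antisymm ?_ h.L_le_CQ
  have s : NOThreeL.VF.Q.Sit P (CQ P V) (zl (S : Subgroup G) P) :=
    { ab := fun x hx y hy => h.hyp.V_comm hx.1 hy.1
      sq := fun x hx => h.hyp.sq' hx.1
      VW := h.L_le_CQ
      nW := h.P_norm_CQ }
  have hWS : CQ P V ≤ (S : Subgroup G) :=
    (h.CQ_le_EE hFF).trans (Flat.Hyp.E_le_W.trans h.WS)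
  have hmovCQ : ¬ Flat.WW V F ≤ centralizer (CQ P V : Set G) := fun h1 => h.mov (h1.trans (centralizer_le h.L_le_CQ))
  have off : OffM (CQ P V) (Flat.WW V F) :=
    { sq := fun a ha => centralizer_le inf_le_left (h.hyp.elemM_W.sq a ha)
      comm := fun a ha b hb => centralizer_le inf_le_left (h.hyp.elemM_W.comm a ha b hb)
      ne := hmovCQ
      le := relIndex_le_iff.2 (h.hyp.off_of_le_all (h.CQ_le_EE hFF)) }
  have hAC : Flat.WW V F ⊓ centralizer (zl (S : Subgroup G) P : Set G) ≤ centralizer (CQ P V : Set G) := by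
    refine h.BB_le_o2.trans ?_
    intro q hq
    rw [mem_centralizer_iff]
    intro y hy
    exact (mem_centralizer_iff.1 hy.2 _ hq).symm
  have hcv := h.cv
  obtain ⟨hno, ⟨K, _, _, _, k, hk, ⟨M⟩⟩ | ⟨k, m, hk, hm, ⟨M⟩⟩⟩ := h.ff hFF
  · rw [hcv] at M
    exact NOThreeL.VF.Q.nat_le M s S.isPGroup' h.SP le_rfl hWS (h.noOver_CQ hFF) hno h.WS off h.mov hAC
  · rw [hcv] at M
    exact NOThreeL.VF.Q.S.sym_le M (by omega) s S.isPGroup' h.SP le_rfl hWS (h.noOver_CQ hFF) hno h.WS off h.mov hAC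

end Act

end Cfsg.Agent.Omega.NO3S.BetaFF
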