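import Cfsg.Agent.Mrg.Omega.NO3S.BetaFF.FourB
import Cfsg.Agent.Mrg.Omega.NO3S.BetaFF.ActClaim


/-!
# THEOREM BETA-FF(1) (helper284 #19171): the frame and `Uniq S P`

`HypN S P`; `V` any group with `Flat.Hyp V F`, `W_F ≤ S`, `W_F ≰ O₂(P)`, `P ≤ N(V)`, `V_P ≤ V`; `V_P` natural over `K`.

* `UU S` : the group of all lines of `P*(S)` on `Z`;
* `nOff`, `exists_fr` : the frame `Fr K S P V F V_P (UU S)` exists (fields allowed);
* `Fr.fsr_of_mem` : `V_Q ∩ V_P ≰ R` ⟹ `FSR S Q W_F R v`, in particular `C_{V_Q}(O²(Q)) = 1`;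
* `Fr.le_or` : `V_Q ≤ R`, or `V_Q = V_P` and `C_{V_Q}(O²(Q)) = 1`, for all `Q ∈ P*(S)` with `Q ≤ N(V)`, `V_Q ≤ V`;
* `Fr.toUniq` : `|Z| = |K|` ⟹ `Uniq S P`;  `Fr.zc_o2` : `Ω₁(Z(O₂(P))) = V_P`.
-/

set_option autoImplicit false
set_option linter.unusedVariables false
set_option linter.unusedSectionVars false

namespace Cfsg.Agent.Omega.BetaFF

open Subgroup Cfsg Cfsg.Agent.Omega.NOne.Flat Cfsg.Agent.Omega.NO3S.Fld Cfsg.Agent.Omega.MinPar
open Cfsg.Agent.Omega.NOne.NearFF (c c_def)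
open Cfsg.Agent.ZN (o2 zl zc)
open Cfsg.Agent.MinSimple.VModule (zc_le zc_le_zl zl_le le_o2 le_normalizer_zl le_normalizer_o2 oddGen oddGen_le)
open Cfsg.Agent.Omega.FFThm (OffM NoOverM StmtM)
open Cfsg.Agent.Omega.FrameFF (cv)
open Cfsg.Agent.Omega.FrameNOFF (CZ)
open Cfsg.Agent.Omega.NoFF.Lines (Geo)
open Cfsg.Agent.Omega.NO3S (HypN Uniq)
open Cfsg.Agent.Omega.NO3S.BetaFF (FSR fsr_of le_EE_of_low zc_le_F)
open scoped Pointwise

universe u

variable {G : Type u} [Group G] [Finite G] {S : Sylow 2 G} {P Q V F : Subgroup G}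

/-- The group of all lines of `P*(S)` on the point `Z`. -/
def UU (S : Subgroup G) : Subgroup G := NoFF.Lines.W (zc S) (CZ S) {R | IsParS S R}

/-- The geometry of all of `P*(S)`. -/
theorem geoAll (h : HypN S P) : Geo (S : Subgroup G) (zc (S : Subgroup G)) (CZ (S : Subgroup G))
    {R | IsParS (S : Subgroup G) R} :=
  NoFF.LinesPlug.geo h.ctx.char2 S h.toHyp.ne h.noFF (F := {R | IsParS (S : Subgroup G) R}) (fun _ hR => hR)
    fun R hR => h.low R hR

theorem nOff (h : HypN S P) : NOff (S : Subgroup G) := fun Q hQ Q' hQ' g h1 h2 =>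
  (geoAll h).noff Q hQ Q' hQ' g h1 h2

theorem zl_le_UU (hQ : IsParS (S : Subgroup G) Q) : zl (S : Subgroup G) Q ≤ UU (S : Subgroup G) := by
  have h1 := NoFF.Lines.line_le (Z := zc (S : Subgroup G)) (C := CZ (S : Subgroup G))
    (F := {R | IsParS (S : Subgroup G) R}) (P := Q) hQ (one_mem _)
  rw [map_one, one_smul] at h1
  exact h1

theorem UU_comm (h : HypN S P) : UU (S : Subgroup G) ≤ centralizer (UU (S : Subgroup G) : Set G) := (geoAll h).W_comm

theorem UU_norm : CZ (S : Subgroup G) ≤ normalizer (UU (S : Subgroup G) : Set G) :=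
  NoFF.Lines.C_le_normalizer_W

/-- `UU S ≤ O₂(C_G(R))` for `Z ≤ R ≤ UU S`. -/
theorem UU_le_o2 (h : HypN S P) {R : Subgroup G} (h1 : zc (S : Subgroup G) ≤ R) (h2 : R ≤ UU (S : Subgroup G)) :
    UU (S : Subgroup G) ≤ o2 (centralizer (R : Set G)) := by
  refine MinSimple.VModule.le_o2 ((UU_comm h).trans (centralizer_le h2)) ?_
    ((centralizer_le h1).trans UU_norm)
  intro w
  refine ⟨1, Subtype.ext ?_⟩
  have := (geoAll h).W_sq w w.2
  simpa using this

/-- **The frame.** -/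
theorem exists_fr (h : HypN S P) (hf : NOne.Flat.Hyp V F) (hPV : P ≤ normalizer (V : Set G))
    (hLV : zl (S : Subgroup G) P ≤ V) (hW : WW V F ≤ (S : Subgroup G)) (hm : ¬ WW V F ≤ o2 P)
    {K : Type*} [Field K] [Finite K] [CharP K 2] (M : Crd K (S : Subgroup G) P (zl (S : Subgroup G) P)) :
    ∃ fr : Fr K S P V F (zl (S : Subgroup G) P) (UU (S : Subgroup G)), fr.M = M := by
  have hG := h.ctx.char2
  have hZR : zc (S : Subgroup G) ≤ M.R := fun z hz =>
    M.mem_R_of_comm (zc_le_zl _ _ hz) fun b hb _ => (ZN.mem_zc.1 hz).2.1 b hb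
  have hRU : M.R ≤ UU (S : Subgroup G) := M.R_le.trans (zl_le_UU h.star)
  have hZF := zc_le_F hf ((zc_le_zl _ _).trans hLV) hW
  have hE : zl (S : Subgroup G) P ≤ EE V F := le_EE_of_low hf hLV hZF (h.low P h.star)
  have hmv : ¬ WW V F ≤ centralizer (zl (S : Subgroup G) P : Set G) := fun h1 => hm (by
    rw [← h.star.inf_centralizer S hG]
    exact le_inf hW h1)
  have hEl : FFThm.ElemM (zl (S : Subgroup G) P) (WW V F) :=
    ⟨fun a ha => centralizer_le (hE.trans inf_le_left) (hf.elemM_W.sq a ha),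
      fun a ha b hb => centralizer_le (hE.trans inf_le_left) (hf.elemM_W.comm a ha b hb)⟩
  have hWR : WW V F ≤ centralizer (M.R : Set G) :=
    M.off_le_centR hW hEl (FFThm.relIndex_le_iff.2 (hf.off_of_le_all hE))
  exact ⟨{ hyp := hf
           SP := h.star.le
           PV := hPV
           PL := le_normalizer_zl _ _
           LV := hLV
           M := M
           WS := hW
           WR := hWR
           mv := hmv
           PQ := by rw [h.star.inf_centralizer S hG]; exact le_normalizer_o2 P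
           LU := zl_le_UU h.star
           Ucomm := UU_comm h
           Uo2 := UU_le_o2 h hZR hRU
           UN := (centralizer_le hZR).trans UU_norm }, rfl⟩

namespace Fr

variable {K : Type*} [Field K] {U : Subgroup G}

/-- `V_Q ∩ V_P ≰ R` ⟹ LEMMA FS for `V_Q`. -/
theorem fsr_of_mem (hFF : StmtM.{u}) (hG : IsCharacteristicTwoType G)
    (h : Fr K S P V F (zl (S : Subgroup G) P) U) (h₂ : IsParS (S : Subgroup G) Q)
    (hV : zl (S : Subgroup G) Q ≤ V) (hU : zl (S : Subgroup G) Q ≤ U) {v : G}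
    (hv : v ∈ zl (S : Subgroup G) Q) (hvL : v ∈ zl (S : Subgroup G) P) (hvR : v ∉ h.M.R) :
    FSR (S : Subgroup G) Q (WW V F) h.M.R v := by
  have hE := h.zl_le_E hV hU
  have hm : ¬ WW V F ≤ centralizer (zl (S : Subgroup G) Q : Set G) := by
    intro hc
    have h1 : h.M.R = ⊥ := by
      rw [eq_bot_iff]
      intro z hz
      obtain ⟨w, hw, rfl⟩ := h.surjW hvL hvR hz
      rw [mem_bot, ← mem_centralizer_iff.1 (hc hw) v hv, mul_inv_cancel_right, mul_inv_cancel]
    have h2 := h.M.card_R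
    rw [h1, Subgroup.card_bot] at h2
    have := h.one_lt_card
    omega
  exact fsr_of hFF hG h₂ h.WS (h.offM_of hE hm) hv (fun z hz => h.surjW hvL hvR hz) (fun a ha => h.commW hvL ha)
    h.zc_le_R

/-- **UNIQ over `R`**, with `C_{V_Q}(O²(Q)) = 1`. -/
theorem le_or (hFF : StmtM.{u}) (hG : IsCharacteristicTwoType G) (hP : IsParS (S : Subgroup G) P)
    (h : Fr K S P V F (zl (S : Subgroup G) P) U) (hK : 2 < Nat.card K) (hno : NOff (S : Subgroup G))
    (h₂ : IsParS (S : Subgroup G) Q) (hPV : Q ≤ normalizer (V : Set G)) (hV : zl (S : Subgroup G) Q ≤ V)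
    (hU : zl (S : Subgroup G) Q ≤ U) :
    zl (S : Subgroup G) Q ≤ h.M.R ∨
      (zl (S : Subgroup G) Q = zl (S : Subgroup G) P ∧ cv (S : Subgroup G) Q = ⊥) := by
  refine (h.le_or_eq hFF hG hP hK hno h₂ hPV hV hU).imp id fun h1 => ⟨h1, ?_⟩
  obtain ⟨v, hv, hvR⟩ := h.M.exists_ne_R
  exact (h.fsr_of_mem hFF hG h₂ hV hU (h1 ▸ hv) hv hvR).cv

/-- `|Z| = |K|` ⟹ `R = Z`. -/
theorem R_eq (h : Fr K S P V F (zl (S : Subgroup G) P) U) (hZ : Nat.card (zc (S : Subgroup G)) = Nat.card K) :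
    h.M.R = zc (S : Subgroup G) :=
  (Subgroup.eq_of_le_of_card_ge h.zc_le_R (by rw [h.M.card_R, hZ])).symm

theorem not_zl_le_zc (hQ : IsParS (S : Subgroup G) Q) : ¬ zl (S : Subgroup G) Q ≤ zc (S : Subgroup G) := by
  intro h1
  apply hQ.not_zc
  have h2 : zl (S : Subgroup G) Q = zc (S : Subgroup G) := le_antisymm h1 (zc_le_zl _ _)
  have h3 := le_normalizer_zl (S : Subgroup G) Q
  rwa [h2] at h3

/-- **`Uniq S P`** if `R = Z`. -/
theorem toUniq (hFF : StmtM.{u}) (hG : IsCharacteristicTwoType G) (hP : IsParS (S : Subgroup G) P)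
    (h : Fr K S P V F (zl (S : Subgroup G) P) U) (hK : 2 < Nat.card K)
    (hZ : Nat.card (zc (S : Subgroup G)) = Nat.card K) (hno : NOff (S : Subgroup G))
    (hall : ∀ R, IsParS (S : Subgroup G) R → R ≤ normalizer (V : Set G) ∧ zl (S : Subgroup G) R ≤ V)
    (hU : ∀ R, IsParS (S : Subgroup G) R → zl (S : Subgroup G) R ≤ U) : Uniq (S : Subgroup G) P := by
  have key : ∀ R : Subgroup G, IsParS (S : Subgroup G) R →
      zl (S : Subgroup G) R = zl (S : Subgroup G) P ∧ cv (S : Subgroup G) R = ⊥ := by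
    intro R hR
    rcases h.le_or hFF hG hP hK hno hR (hall R hR).1 (hall R hR).2 (hU R hR) with h1 | h1
    · rw [h.R_eq hZ] at h1
      exact absurd h1 (not_zl_le_zc hR)
    · exact h1
  refine ⟨fun R hR => (key R hR).1, fun R hR => ?_⟩
  rw [eq_bot_iff, ← (key R hR).2]
  exact inf_le_inf (zc_le_zl _ _) (centralizer_le (oddGen_le R))

/-- **(T6)** `Ω₁(Z(O₂(P))) = V_P`. -/
theorem zc_o2 (hFF : StmtM.{u}) (hG : IsCharacteristicTwoType G) (hP : IsParS (S : Subgroup G) P)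
    (h : Fr K S P V F (zl (S : Subgroup G) P) U) (hzo : zc (o2 P) ≤ V) : zc (o2 P) = zl (S : Subgroup G) P := by
  refine le_antisymm ((le_inf hzo ?_).trans (h.cent_QL hFF hG hP)) (hP.isLoc.zl_le S hG)
  rw [h.Q_eq hG hP]
  intro z hz
  rw [mem_centralizer_iff]
  exact fun q hq => (ZN.mem_zc.1 hz).2.1 q hq

end Fr

end Cfsg.Agent.Omega.BetaFF
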