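import Cfsg.Agent.Mrg.Omega.NO3S.Fld.UniqB
import Cfsg.Agent.Mrg.Omega.NO3S.Fld.LevBR


/-!
# BETA-FF (#19171 (4)(b)): one natural block

`P ∈ P*(S)`, `V = V_P`, `A ≤ S` an offender on `V`, `v ∈ V`, `R = {[a, v] : a ∈ A} ≥ Ω₁(Z(S))`, `|R| > 2`.

`fs_nat` : if `C_V(a) ≤ R` for all `a ∈ A - C(V)`, then `V` is one natural `SL₂(F)`-module with line `R`.
-/

set_option autoImplicit false
set_option linter.unusedSectionVars false
set_option linter.unusedVariables false

namespace Cfsg.Agent.Omega.NO3S.BetaFF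

open Subgroup Cfsg Cfsg.Agent.ZN Cfsg.Agent.ZN.ChoiceBase Cfsg.Agent.Omega.MinPar
open Cfsg.Agent.ZN.ChoiceSit (Syl o2_le_syl)
open Cfsg.Agent.Omega.SQ1
open Cfsg.Agent.MinSimple.VModule (zc_le zc_le_zl zl_le le_o2 le_normalizer_zl le_normalizer_o2 oddGen oddGen_le)
open Cfsg.Agent.Omega.SQ1.FFOne Cfsg.Agent.Omega.SQ1.FFSym Cfsg.Agent.Lib.SL2Mat
open Cfsg.Agent.Omega.FFThm (NatK SymK NatKM SymKM OffM NoOverM ActsSym ActsSL StmtM)
open Cfsg.Agent.Omega.FrameFF (cv NatOver)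
open Cfsg.Agent.Omega.NatPair (ap ap_zero' ap_one' ap_one ap_mul ap_add ap_smul ext2 ap_inv_ap ap_inj)
open Cfsg.Agent.Omega.NO3S.OneLine (NatC natC_of card_of_hom syl_of minH card_mul_relIndex cyc_T' disj' sy_of
  exists_fixed)
open Cfsg.Agent.Omega.NO3S.Fld

universe u

variable {G : Type u} [Group G] [Finite G] {S : Sylow 2 G} {P : Subgroup G}

/-- the data of the even-subset case -/
theorem sym_out (hG : IsCharacteristicTwoType G) (hP : IsParS (S : Subgroup G) P) {k m : ℕ} (hk : 0 < k) (hm2 : 2 ≤ m)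
    (M : SymKM (S : Subgroup G) P (zl (S : Subgroup G) P) (cv (S : Subgroup G) P) k m)
    {A : Subgroup G} (hA : A ≤ (S : Subgroup G)) (hoff : OffM (zl (S : Subgroup G) P) A) :
    SyC (S : Subgroup G) P (zl (S : Subgroup G) P) (cv (S : Subgroup G) P) (0 : Fin (2 ^ m + 1)) M.e ∧
      SymA (S : Subgroup G) P (zl (S : Subgroup G) P) (cv (S : Subgroup G) P) A M.e := by
  have hm := minH hG hP
  have hTH := hm.syl.1
  have hs := sy_of hm M.toSymK hk (by omega) SQ1.FFOf.cv_le SQ1.FFOf.cv_norm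
  have hswap : ∀ b ∈ A,
      ∃ τ, Gd P (zl (S : Subgroup G) P) (cv (S : Subgroup G) P) M.e τ b ∧ ∀ i x, τ i x ≠ x →
        TrM (S : Subgroup G) P (zl (S : Subgroup G) P) (cv (S : Subgroup G) P) M.e i x (τ i x) ∧
        ∃ b' ∈ A, Gd P (zl (S : Subgroup G) P) (cv (S : Subgroup G) P) M.e
          (Function.update 1 i (Equiv.swap x (τ i x))) b' := by
    intro b hb
    obtain ⟨hD, h2⟩ := M.offM A hA hoff
    obtain ⟨τ, hτ, hτ'⟩ := h2 b hb
    refine ⟨τ, ⟨hTH (hA hb), hD b hb, hτ⟩, fun i x hx => ?_⟩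
    obtain ⟨-, b', hb', hb''⟩ := hτ' i x hx
    exact ⟨⟨Ne.symm hx, b', hA hb', hTH (hA hb'), hD b' hb', hb''⟩, b', hb', hTH (hA hb'), hD b' hb', hb''⟩
  refine ⟨⟨hs, hTH, hm.syl.2.1, M.trans, M.fix0, fun j x y hx hy => cyc_T' hm M.toSymK hs (by omega) j hx hy, ?_⟩,
    hA, hswap⟩
  by_contra hcon
  push Not at hcon
  apply hoff.ne
  intro a ha
  obtain ⟨τ, hτ, hτ'⟩ := hswap a ha
  have h1 : τ = 1 := by
    funext i
    ext x
    by_contra hx
    have hx' : τ i x ≠ x := fun e => hx (by rw [e]; rfl)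
    exact hcon i x (τ i x) (hτ' i x hx').1
  subst h1
  refine mem_centralizer_iff.2 fun v hv => ?_
  have h2 := hs.gd_sim hτ hs.gd_one v hv
  symm
  calc a * v = (a * v * a⁻¹) * a := by group
    _ = v * a := by rw [h2]; group

/-- **One natural block.** -/
theorem fs_nat (hFF : StmtM.{u}) (hG : IsCharacteristicTwoType G) (hP : IsParS (S : Subgroup G) P)
    {A R : Subgroup G} (hA : A ≤ (S : Subgroup G)) (hoff : OffM (zl (S : Subgroup G) P) A) {v : G}
    (hv : v ∈ zl (S : Subgroup G) P) (hR : ∀ z ∈ R, ∃ a ∈ A, a * v * a⁻¹ * v⁻¹ = z)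
    (hR' : ∀ a ∈ A, a * v * a⁻¹ * v⁻¹ ∈ R) (hZ : zc (S : Subgroup G) ≤ R)
    (hone : ∀ a ∈ A, a ∉ centralizer (zl (S : Subgroup G) P : Set G) →
      ∀ w ∈ zl (S : Subgroup G) P, a * w = w * a → w ∈ R)
    (h2 : 2 < Nat.card R) :
    ∃ (F : Type) (_ : Field F) (_ : Finite F) (_ : CharP F 2)
      (M : Crd F (S : Subgroup G) P (zl (S : Subgroup G) P)), M.R = R := by
  have f := fsr_of hFF hG hP hA hoff hv hR hR' hZ
  obtain ⟨z, hz, hzD⟩ := SetLike.not_le_iff_exists.1 (not_zc_le_cv hP)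
  obtain ⟨a₀, ha₀, haz⟩ := hR z (hZ hz)
  have hzT : ∀ t ∈ (S : Subgroup G), t * z = z * t := (mem_zc.1 hz).2.2
  have hsyl := syl_of hP
  have hch := hP.isLoc.char2 S hG
  have hm := minH hG hP
  have hcV := (IsParS.inf_centralizer S hG hP).le
  have hTH := hm.syl.1
  have hcomm1 : ∀ {a w : G}, a * w * a⁻¹ * w⁻¹ = 1 → a * w = w * a := by
    intro a w h
    rwa [mul_inv_eq_one, mul_inv_eq_iff_eq_mul] at h
  have hcomm2 : ∀ {a w : G}, a * w = w * a → a * w * a⁻¹ * w⁻¹ = 1 := by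
    intro a w h
    rw [h]; group
  have hRA : ∀ w ∈ R, ∀ a ∈ A, a * w = w * a := by
    intro w hw a ha
    exact (mem_centralizer_iff.1 (f.AR ha) w hw).symm
  obtain ⟨-, hcon⟩ := hFF G (S : Subgroup G) P hsyl hP.toIsMinPar hch ⟨A, hA.trans hsyl.1, hoff⟩
  rcases hcon with ⟨F, _, _, _, k, hk, ⟨M⟩⟩ | ⟨k, m, hk, hm2, ⟨M⟩⟩
  · let N := natC_of hm hk M.toNatK
    obtain ⟨I, h4, h5⟩ := M.offM A hA hoff
    obtain ⟨hv1, hI⟩ := nat_fs N hm hcV hA hoff h4 h5 hv hzD hzT ha₀ haz
    have hk1 : k = 1 := by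
      by_contra hk1
      have hk2 : 1 < k := by omega
      let i0 : Fin k := ⟨0, hk⟩
      let i1 : Fin k := ⟨1, hk2⟩
      have hne : i1 ≠ i0 := by
        intro h
        have := congrArg Fin.val h
        simp [i0, i1] at this
      classical
      obtain ⟨a, ha, h6⟩ := h5 (Pi.single i0 1) fun i hi => absurd (hI i) hi
      obtain ⟨a₁, ha₁, h7⟩ := h5 (fun _ => 1) fun i hi => absurd (hI i) hi
      have haV : a ∉ centralizer (zl (S : Subgroup G) P : Set G) := by
        intro hc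
        have h8 := e_comm N hv (hTH (hA ha)) h6 i0
        rw [hcomm2 (mem_centralizer_iff.1 hc v hv).symm, N.map_one, Pi.single_eq_same, one_mul] at h8
        exact hv1 i0 (congrFun h8 0).symm
      obtain ⟨w, hw, ew⟩ := N.nat.surj (Pi.single i1 ![0, 1])
      have h9 : N.nat.e (a * w * a⁻¹ * w⁻¹) = 0 := by
        funext i
        rw [e_comm N hw (hTH (hA ha)) h6 i, ew]
        by_cases hi : i = i0
        · subst hi
          rw [Pi.single_eq_of_ne hne.symm]
          refine ext2 ?_ rfl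
          simp
        · rw [Pi.single_eq_of_ne hi]
          refine ext2 ?_ rfl
          simp
      have hwa : a * w * a⁻¹ * w⁻¹ ∈ zl (S : Subgroup G) P :=
        mul_mem (N.Vn a (hTH (hA ha)) w hw) (inv_mem hw)
      have h10 := (N.nat.ker _ hwa).1 h9
      rw [f.cv, mem_bot] at h10
      have h11 := hone a ha haV w hw (hcomm1 h10)
      have h12 := e_comm N hw (hTH (hA ha₁)) h7 i1
      rw [hcomm2 (hRA w h11 a₁ ha₁), N.map_one, ew, Pi.single_eq_same] at h12
      have h13 := congrFun h12 0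
      simp at h13
    subst hk1
    obtain ⟨no⟩ : Nonempty (NatOver F P (zl (S : Subgroup G) P) ⊥) := by
      rw [← f.cv]
      exact ⟨M.toNatK.natOver⟩
    have hSne : (S : Subgroup G) ≠ ⊥ := by
      intro h
      have h1 : R ≤ ⊥ := by
        rw [← h]
        exact f.RV.trans ((zl_le_o2' hG hP).trans (NO3S.OneLine.o2_le S hP.toIsPar))
      rw [le_bot_iff.1 h1, Subgroup.card_bot] at h2
      omega
    obtain ⟨M''⟩ := exists_crd_of hG hSne hP (NatP.ofNatOver (le_normalizer_zl _ _) no)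
    refine ⟨F, _, inferInstance, inferInstance, M'', ?_⟩
    have h1 : A ≤ centralizer (M''.R : Set G) := M''.off_le_centR hA hoff.toElemM hoff.le
    have h3 : M''.R ≤ R := by
      rw [← f.cR]
      exact le_inf M''.R_le (Subgroup.le_centralizer_iff.1 h1)
    refine Subgroup.eq_of_le_of_card_ge h3 ?_
    have h4 := M''.card_V_R
    rw [f.cardV] at h4
    exact (Nat.mul_self_inj.1 h4).le
  · exfalso
    obtain ⟨h, hSA⟩ := sym_out hG hP hk hm2 M hA hoff
    obtain ⟨ι, J, X, Y, _, c⟩ := h.exists_ch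
    obtain ⟨⟨τ₀, hτ₀, hτ₀'⟩, hvl, hbl⟩ := hSA.full h c hv hzD hzT ha₀ haz
    -- two pairs
    obtain ⟨l, l', hll⟩ : ∃ l l' : ι, l ≠ l' := by
      by_contra hcon
      push Not at hcon
      have hι : Nat.card ι ≤ 1 := by
        have : Subsingleton ι := ⟨hcon⟩
        exact Finite.card_le_one_iff_subsingleton.2 this
      have h1 := symCardM h c
      rw [symCard1M h c, f.cv, Subgroup.card_bot, one_mul, f.cardV] at h1
      have h3 : Nat.card (ι → ZMod 2) ≤ 2 := by
        rw [Nat.card_fun, Nat.card_zmod]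
        calc 2 ^ Nat.card ι ≤ 2 ^ 1 := Nat.pow_le_pow_right (by norm_num) hι
          _ = 2 := by norm_num
      have h4 : 3 * 3 ≤ Nat.card R * Nat.card R := Nat.mul_le_mul h2 h2
      have h5 : Nat.card (ι → ZMod 2) * Nat.card (ι → ZMod 2) ≤ 2 * 2 := Nat.mul_le_mul h3 h3
      omega
    obtain ⟨b, hb, hbg⟩ := hbl l
    obtain ⟨b', hb', hbg'⟩ := hbl l'
    have hbV : b ∉ centralizer (zl (S : Subgroup G) P : Set G) := by
      intro hc
      have h1 := e_comm_sym h hv hbg.mem hbg.act (J l) (X l)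
      rw [Function.update_self, Equiv.swap_apply_left, hcomm2 (mem_centralizer_iff.1 hc v hv).symm, h.e_one,
        hvl l] at h1
      exact zero_ne_one h1
    set w := u P (zl (S : Subgroup G) P) (cv (S : Subgroup G) P) M.e (J l') (X l') 0 with hw
    have hwV : w ∈ zl (S : Subgroup G) P := h.u_mem _ _ _
    have hew := h.e_u (J l') (X l') 0
    rw [← hw] at hew
    have hX' : ∀ i, X i ≠ 0 := fun i => (c.tr i).ne h
    have hY' : ∀ i, Y i ≠ 0 := fun i => (c.tr i).symm.ne h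
    have hXl : M.e w (J l) (X l) = 0 := by
      rw [hew, Pi.add_apply, Pi.add_apply, E_ne fun h1 => hX' l h1.2, add_zero]
      by_cases hJ : J l = J l'
      · obtain ⟨a1, a2, a3, a4⟩ := c.cases h hll hJ
        exact E_ne fun h1 => a1 h1.2
      · exact E_ne fun h1 => hJ h1.1
    have hYl : M.e w (J l) (Y l) = 0 := by
      rw [hew, Pi.add_apply, Pi.add_apply, E_ne fun h1 => hY' l h1.2, add_zero]
      by_cases hJ : J l = J l'
      · obtain ⟨a1, a2, a3, a4⟩ := c.cases h hll hJ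
        exact E_ne fun h1 => a3 h1.2
      · exact E_ne fun h1 => hJ h1.1
    have hXl' : M.e w (J l') (X l') = 1 := by
      rw [hew, Pi.add_apply, Pi.add_apply, E_self, E_ne fun h1 => hX' l' h1.2, add_zero]
    have hYl' : M.e w (J l') (Y l') = 0 := by
      rw [hew, Pi.add_apply, Pi.add_apply, E_ne fun h1 => (c.tr l').1 h1.2.symm, E_ne fun h1 => hY' l' h1.2, add_zero]
    have hbw : b * w * b⁻¹ * w⁻¹ ∈ cv (S : Subgroup G) P := by
      refine mem_D_ofM h c (mul_mem (h.Vn b hbg.mem w hwV) (inv_mem hwV)) fun i => ?_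
      have h3 := e_comm_sym h hwV hbg.mem hbg.act (J i) (X i)
      have h4 := e_comm_sym h hwV hbg.mem hbg.act (J i) (Y i)
      by_cases hi : i = l
      · subst hi
        rw [Function.update_self, Equiv.swap_apply_left, hXl, hYl, add_zero] at h3
        rw [Function.update_self, Equiv.swap_apply_right, hXl, hYl, add_zero] at h4
        exact ⟨h4, h3⟩
      · have h5 : (Function.update 1 (J l) (Equiv.swap (X l) (Y l)) : Fin k → Equiv.Perm (Fin (2 ^ m + 1))) (J i)
            (X i) = X i ∧ (Function.update 1 (J l) (Equiv.swap (X l) (Y l)) : Fin k → Equiv.Perm (Fin (2 ^ m + 1)))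
            (J i) (Y i) = Y i := by
          by_cases hJ : J i = J l
          · obtain ⟨a1, a2, a3, a4⟩ := c.cases h hi hJ
            rw [hJ, Function.update_self]
            exact ⟨Equiv.swap_apply_of_ne_of_ne a1 a2, Equiv.swap_apply_of_ne_of_ne a3 a4⟩
          · rw [Function.update_of_ne hJ]
            exact ⟨rfl, rfl⟩
        rw [h5.1, CharTwo.add_self_eq_zero] at h3
        rw [h5.2, CharTwo.add_self_eq_zero] at h4
        exact ⟨h3, h4⟩
    rw [f.cv, mem_bot] at hbw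
    have hwR := hone b hb hbV w hwV (hcomm1 hbw)
    have h1 := e_comm_sym h hwV hbg'.mem hbg'.act (J l') (X l')
    rw [Function.update_self, Equiv.swap_apply_left, hcomm2 (hRA w hwR b' hb'), h.e_one, hXl', hYl', add_zero] at h1
    exact zero_ne_one h1

end Cfsg.Agent.Omega.NO3S.BetaFF
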