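import Cfsg.Agent.Mrg.Omega.NO3S.BetaFF.FourA
import Cfsg.Agent.Mrg.Omega.NO3S.BetaFF.SupNat
import Cfsg.Agent.Mrg.Omega.NO3S.BetaFF.EndB
import Cfsg.Agent.Mrg.Omega.NOne.Flat.OffMod

section


/-!
# THEOREM BETA-FF(1) (helper284 #19171), section (4): (4b)

`P₂ ∈ P*(S)`, `E₂ = V_{P₂} ≤ V`, `E₂ ≰ R`, `E₂ ∩ L ≤ R`, `r = |K| > 2` ⟹ `Out`: with `p ∈ P` moving `R` and `x ∈ C_G(F)`
bad, `A = (L^x)^{p⁻¹} ≤ Q`: `[E, C_W(L)] ≤ R`, `C_V(L^x) = L F`, `V = E₂^p E`, `V_{P₂}` is a natural line with the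
root line `R`, `A` induces more than two elements on it.
-/

set_option autoImplicit false

namespace Cfsg.Agent.Omega.BetaFF

open Subgroup Cfsg Cfsg.Agent.Omega.NOne.Flat Cfsg.Agent.Omega.NO3S.Fld Cfsg.Agent.Omega.MinPar
open Cfsg.Agent.Omega.NOne.NearFF (c c_def)
open Cfsg.Agent.ZN (o2 zl zc)
open Cfsg.Agent.MinSimple.VModule (zc_le zc_le_zl zl_le le_o2 le_normalizer_zl le_normalizer_o2 oddGen oddGen_le)
open Cfsg.Agent.Omega.FFThm (OffM NoOverM StmtM)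
open Cfsg.Agent.Omega.FrameFF (cv)
open Cfsg.Agent.Omega.NO3S.BetaFF (FSR fsr_of fs_nat not_zc_le_cv Act)
open Cfsg.Agent.Omega.NO3S.OneLine (exists_fixed)
open scoped Pointwise

universe u

namespace Fr

variable {K : Type*} [Field K] {G : Type u} [Group G] [Finite G] {S : Sylow 2 G} {P P₂ V F U : Subgroup G}

/-- The outputs of (4b). -/
structure Out (h : Fr K S P V F (zl (S : Subgroup G) P) U) (P₂ : Subgroup G) (x : G) : Prop where
  nat : ∃ (F₂ : Type) (_ : Field F₂) (_ : Finite F₂) (_ : CharP F₂ 2)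
    (M₂ : Crd F₂ (S : Subgroup G) P₂ (zl (S : Subgroup G) P₂)), M₂.R = h.M.R
  hx : x ∈ centralizer (F : Set G)
  E : ∀ e ∈ EE V F, ∀ b ∈ WW V F, b ∈ centralizer (zl (S : Subgroup G) P : Set G) → c e b ∈ h.M.R
  D : V ⊓ centralizer ((MulAut.conj x • zl (S : Subgroup G) P : Subgroup G) : Set G) ≤ zl (S : Subgroup G) P ⊔ F
  span : ∃ y ∈ P, ∀ v ∈ V, ∃ l ∈ zl (S : Subgroup G) P₂, ∃ e ∈ EE V F, v = y * l * y⁻¹ * e
  hB : ∃ b ∈ WW V F, b ∈ centralizer (zl (S : Subgroup G) P : Set G) ∧ b ∉ NN V F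
  hA : ∃ y ∈ P, ∃ a ∈ MulAut.conj (y * x) • zl (S : Subgroup G) P, ∃ b ∈ MulAut.conj (y * x) • zl (S : Subgroup G) P,
    a ∉ centralizer (zl (S : Subgroup G) P₂ : Set G) ∧ b ∉ centralizer (zl (S : Subgroup G) P₂ : Set G) ∧
      b * a ∉ centralizer (zl (S : Subgroup G) P₂ : Set G)

/-- **(4b)** -/
theorem four_b (hFF : StmtM.{u}) (hG : IsCharacteristicTwoType G) (hP : IsParS (S : Subgroup G) P)
    (h : Fr K S P V F (zl (S : Subgroup G) P) U) (hK : 2 < Nat.card K) (h₂ : IsParS (S : Subgroup G) P₂)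
    (hV : zl (S : Subgroup G) P₂ ≤ V) (hne : ¬ zl (S : Subgroup G) P₂ ≤ h.M.R)
    (hinf : zl (S : Subgroup G) P₂ ⊓ zl (S : Subgroup G) P ≤ h.M.R) {x : G} (hx : x ∈ centralizer (F : Set G))
    (hb : BadX V x) : h.Out P₂ x := by
  have hPP := h.PV
  have hzlS : zl (S : Subgroup G) P₂ ≤ (S : Subgroup G) :=
    (NO3S.Fld.zl_le_o2' hG h₂).trans (NO3S.OneLine.o2_le S h₂.toIsPar)
  have hSn : (S : Subgroup G) ≤ normalizer (zl (S : Subgroup G) P₂ : Set G) := h₂.le.trans (le_normalizer_zl _ _)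
  obtain ⟨v, hv, hvR, hvS⟩ := exists_fixed (M := h.M.R) (N := zl (S : Subgroup G) P₂) S.isPGroup' hzlS hSn hne
  have hvV : v ∈ V := hV hv
  have hvL : v ∉ zl (S : Subgroup G) P := fun h1 => hvR (hinf ⟨hv, h1⟩)
  have hcQ := h.cent_QL hFF hG hP
  obtain ⟨p, hp, hpR⟩ := crd_exists_mv h.M
  have hcinv : ∀ {a b : G}, c a b = (b * a * b⁻¹ * a⁻¹)⁻¹ := fun {a b} => by rw [c]; group
  have b := h.badAt hcQ hvV hvL (fun s hs => by rw [hcinv]; exact inv_mem (hvS s hs.1)) hp hpR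
  -- the group `A`
  have memA : ∀ {a : G}, a ∈ MulAut.conj (p⁻¹ * x) • zl (S : Subgroup G) P ↔
      p * a * p⁻¹ ∈ MulAut.conj x • zl (S : Subgroup G) P := by
    intro a
    rw [mem_cj, mem_cj]
    have e : (p⁻¹ * x)⁻¹ * a * (p⁻¹ * x) = x⁻¹ * (p * a * p⁻¹) * x := by group
    rw [e]
  obtain ⟨A, hA⟩ : ∃ A, A = MulAut.conj (p⁻¹ * x) • zl (S : Subgroup G) P := ⟨_, rfl⟩
  rw [← hA] at memA
  have hAQ : A ≤ h.Q := by
    intro a ha
    have h1 := h.B1_le_Q (h.conjL_le hx (memA.1 ha))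
    have h2 := (mem_normalizer_iff.1 (h.PQ (inv_mem hp)) _).1 h1
    have e : p⁻¹ * (p * a * p⁻¹) * p⁻¹⁻¹ = a := by group
    rwa [e] at h2
  have hAS : A ≤ (S : Subgroup G) := hAQ.trans inf_le_left
  have hccc : ∀ a e : G, p * c e a * p⁻¹ = c (p * e * p⁻¹) (p * a * p⁻¹) := by
    intro a e; rw [c, c]; group
  have hpR' : MulAut.conj p⁻¹ • h.M.R ≠ h.M.R := by
    intro h1
    apply hpR
    conv_lhs => rw [← h1]
    rw [← mul_smul, ← map_mul, mul_inv_cancel, map_one, one_smul]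
  have hti : h.M.R ⊓ MulAut.conj p⁻¹ • h.M.R = ⊥ := crd_ti h.M (le_normalizer_zl _ _) (inv_mem hp) hpR'
  have hpL : MulAut.conj p⁻¹ • h.M.R ≤ zl (S : Subgroup G) P := h.pt_le (inv_mem hp)
  have hpV : ∀ {y : G}, y ∈ V → p * y * p⁻¹ ∈ V := fun {y} hy => (mem_normalizer_iff.1 (h.PV hp) y).1 hy
  -- (i)
  have hi : ∀ e ∈ zl (S : Subgroup G) P₂, p * e * p⁻¹ ∈ EE V F → ∀ a ∈ A, a * e = e * a := by
    intro e he hpe a ha
    have h1 := b.comm_E hpe (h.conjL_le hx (memA.1 ha))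
    rw [← hccc] at h1
    have h2 : c e a ∈ MulAut.conj p⁻¹ • h.M.R := by
      rw [mem_cj, inv_inv]; exact h1
    have h3 : c e a ∈ zl (S : Subgroup G) P₂ := by
      have h4 := (mem_normalizer_iff.1 (hSn (hAS ha)) _).1 (inv_mem he)
      have e1 : c e a = e * (a * e⁻¹ * a⁻¹) := by rw [c]; group
      rw [e1]
      exact mul_mem he h4
    have h4 : c e a ∈ h.M.R ⊓ MulAut.conj p⁻¹ • h.M.R := ⟨hinf ⟨h3, hpL h2⟩, h2⟩
    rw [hti, mem_bot, c_def, mul_inv_eq_one, mul_inv_eq_iff_eq_mul] at h4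
    exact h4.symm
  -- (ii)
  have hii : ∀ e ∈ V, p * e * p⁻¹ ∉ EE V F → ∀ a ∈ A, a * e = e * a → a ∈ MulAut.conj p⁻¹ • h.M.R := by
    intro e he hpe a ha hae
    rw [mem_cj, inv_inv]
    have h1 : c (p * e * p⁻¹) (p * a * p⁻¹) ∈ F := by
      rw [← hccc]
      have e1 : c e a = 1 := by rw [c_def, ← hae]; group
      rw [e1, mul_one, mul_inv_cancel]
      exact one_mem _
    have h2 := memA.1 ha
    rw [h.hyp.c_mem_F_iff (hpV he) hpe (h.conjL_le_W hx h2)] at h1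
    rw [← h.conjL_inf hx hb]
    exact ⟨h2, h1⟩
  have hpRV : ∀ a ∈ MulAut.conj p⁻¹ • h.M.R, a ∈ centralizer (zl (S : Subgroup G) P₂ : Set G) := by
    intro a ha
    rw [mem_centralizer_iff]
    intro y hy
    exact h.hyp.V_comm (hV hy) (h.LV (hpL ha))
  -- `[v, A] = R`
  have hR : ∀ z ∈ h.M.R, ∃ a ∈ A, a * v * a⁻¹ * v⁻¹ = z := by
    intro z hz
    obtain ⟨l, hl, hlz⟩ := b.surj hx hb (z := p * z⁻¹ * p⁻¹) (cj_mem_cj (inv_mem hz))
    refine ⟨p⁻¹ * l * p, memA.2 ?_, ?_⟩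
    · have e : p * (p⁻¹ * l * p) * p⁻¹ = l := by group
      rw [e]; exact hl
    · have e : p⁻¹ * l * p * v * (p⁻¹ * l * p)⁻¹ * v⁻¹ = p⁻¹ * (c (p * v * p⁻¹) l)⁻¹ * p := by rw [c]; group
      rw [e, hlz]
      group
  have hR' : ∀ a ∈ A, a * v * a⁻¹ * v⁻¹ ∈ h.M.R := fun a ha => hvS a (hAS ha)
  -- `A` offends
  have hAab : ∀ a ∈ A, ∀ a' ∈ A, a * a' = a' * a := by
    intro a ha a' ha'
    rw [hA, mem_cj] at ha ha'
    have h1 := h.hyp.V_comm (h.LV ha) (h.LV ha')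
    have h2 := congrArg (fun t => (p⁻¹ * x) * t * (p⁻¹ * x)⁻¹) h1
    simpa [mul_assoc] using h2
  have hAsq : ∀ a ∈ A, a ^ 2 = 1 := by
    intro a ha
    rw [hA, mem_cj] at ha
    have h1 := h.hyp.sq' (h.LV ha)
    have h2 := congrArg (fun t => (p⁻¹ * x) * t * (p⁻¹ * x)⁻¹) h1
    rw [pow_two]
    simpa [mul_assoc] using h2
  have hlowA : (MulAut.conj p⁻¹ • h.M.R).relIndex A = Nat.card K := by
    have h1 : A = MulAut.conj p⁻¹ • MulAut.conj x • zl (S : Subgroup G) P := by rw [hA, map_mul, mul_smul]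
    rw [h1, Subgroup.relIndex_pointwise_smul]
    conv_lhs => rw [← h.conjR hx]
    rw [Subgroup.relIndex_pointwise_smul, h.relIndex_R_L]
  have hlow : Nat.card K ≤ (centralizer (zl (S : Subgroup G) P₂ : Set G)).relIndex A := by
    rw [← hlowA, ← inf_relIndex_left A (centralizer (zl (S : Subgroup G) P₂ : Set G))]
    refine relIndex_le_of_le_left ?_ index_ne_zero_of_finite
    rintro a ⟨ha, ha2⟩
    exact hii v hvV b.wE a ha (mem_centralizer_iff.1 ha2 v hv).symm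
  have hT : MulAut.conj p⁻¹ • EE V F ≤ V := by
    have h1 : MulAut.conj p⁻¹ • EE V F ≤ MulAut.conj p⁻¹ • V :=
      Subgroup.pointwise_smul_le_pointwise_smul_iff.2 inf_le_left
    rwa [h.cjV (inv_mem hp)] at h1
  have hTV : (MulAut.conj p⁻¹ • EE V F).relIndex V ≤ Nat.card K := by
    have h1 : (MulAut.conj p⁻¹ • EE V F).relIndex (MulAut.conj p⁻¹ • V) = (EE V F).relIndex V :=
      Subgroup.relIndex_pointwise_smul _ _ _
    rw [h.cjV (inv_mem hp)] at h1
    rw [h1]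
    exact b.relIndex_V_le
  have hTz : (MulAut.conj p⁻¹ • EE V F).relIndex (zl (S : Subgroup G) P₂) ≤
      (MulAut.conj p⁻¹ • EE V F).relIndex V := relIndex_le_of_le_right hV index_ne_zero_of_finite
  have hcA : (centralizer (A : Set G)).relIndex (zl (S : Subgroup G) P₂) ≤
      (MulAut.conj p⁻¹ • EE V F).relIndex (zl (S : Subgroup G) P₂) := by
    rw [← inf_relIndex_left (zl (S : Subgroup G) P₂) (MulAut.conj p⁻¹ • EE V F)]
    refine relIndex_le_of_le_left ?_ index_ne_zero_of_finite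
    intro e he
    have he2 : p * e * p⁻¹ ∈ EE V F := by
      have h1 := mem_cj.1 (Subgroup.mem_inf.1 he).2
      rwa [inv_inv] at h1
    exact mem_centralizer_iff.2 fun a ha => hi e (Subgroup.mem_inf.1 he).1 he2 a ha
  have hoff : OffM (zl (S : Subgroup G) P₂) A :=
    { sq := fun a ha => by rw [hAsq a ha]; exact one_mem _
      comm := fun a ha a' ha' => by
        rw [hAab a ha a' ha', mul_inv_cancel_right, mul_inv_cancel]; exact one_mem _
      ne := by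
        intro hc
        rw [relIndex_eq_one.2 hc] at hlow
        omega
      le := FFThm.relIndex_le_iff.2 (hcA.trans (hTz.trans (hTV.trans hlow))) }
  have f := fsr_of hFF hG h₂ hAS hoff hv hR hR' h.zc_le_R
  -- natural
  have hnat := fs_nat hFF hG h₂ hAS hoff hv hR hR' h.zc_le_R (fun a ha hac w hw haw => by
    rw [← f.cR]
    refine ⟨hw, mem_centralizer_iff.2 ?_⟩
    by_cases hwE : p * w * p⁻¹ ∈ EE V F
    · exact fun a' ha' => hi w hw hwE a' ha'
    · exact absurd (hpRV a (hii w (hV hw) hwE a ha haw)) hac) (by rw [h.M.card_R]; exact hK)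
  -- `q = r`
  have hpos : 0 < Nat.card h.M.R := Nat.card_pos
  have hRz : h.M.R.relIndex (zl (S : Subgroup G) P₂) = Nat.card K := by
    have h1 := card_mul_relIndex' f.RV
    rw [f.cardV] at h1
    rw [Nat.eq_of_mul_eq_mul_left hpos h1, h.M.card_R]
  have hcAz : (centralizer (A : Set G)).relIndex (zl (S : Subgroup G) P₂) = Nat.card K := by
    rw [← hRz, ← f.cR, inf_comm, inf_relIndex_right]
  have hTeq : (MulAut.conj p⁻¹ • EE V F).relIndex (zl (S : Subgroup G) P₂) =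
      (MulAut.conj p⁻¹ • EE V F).relIndex V := by
    apply le_antisymm hTz
    rw [hcAz] at hcA
    exact hTV.trans hcA
  have hspan : ∀ w ∈ V, ∃ l ∈ zl (S : Subgroup G) P₂, ∃ e ∈ EE V F, w = p * l * p⁻¹ * e := by
    have hn : zl (S : Subgroup G) P₂ ≤ normalizer ((MulAut.conj p⁻¹ • EE V F : Subgroup G) : Set G) := by
      refine (hV.trans (h.hyp.comm.trans (centralizer_le hT))).trans (centralizer_le_normalizer _)
    have h1 := Subgroup.relIndex_mul_relIndex (MulAut.conj p⁻¹ • EE V F)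
      (zl (S : Subgroup G) P₂ ⊔ MulAut.conj p⁻¹ • EE V F) V le_sup_right (sup_le hV hT)
    have h2 : (MulAut.conj p⁻¹ • EE V F).relIndex (zl (S : Subgroup G) P₂) ≤
        (MulAut.conj p⁻¹ • EE V F).relIndex (zl (S : Subgroup G) P₂ ⊔ MulAut.conj p⁻¹ • EE V F) :=
      relIndex_le_of_le_right le_sup_left index_ne_zero_of_finite
    rw [hTeq] at h2
    have h3 : (MulAut.conj p⁻¹ • EE V F).relIndex V ≠ 0 := index_ne_zero_of_finite
    have h4 : (zl (S : Subgroup G) P₂ ⊔ MulAut.conj p⁻¹ • EE V F).relIndex V ≠ 0 := index_ne_zero_of_finite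
    have h5 : (zl (S : Subgroup G) P₂ ⊔ MulAut.conj p⁻¹ • EE V F).relIndex V ≤ 1 := by
      by_contra hcon
      push Not at hcon
      have h6 := Nat.mul_le_mul h2 hcon
      omega
    have h6 : V ≤ zl (S : Subgroup G) P₂ ⊔ MulAut.conj p⁻¹ • EE V F := relIndex_eq_one.1 (by omega)
    intro w hw
    have h7 : p⁻¹ * w * p⁻¹⁻¹ ∈ V := (mem_normalizer_iff.1 (h.PV (inv_mem hp)) w).1 hw
    have h8 := h6 h7
    rw [← SetLike.mem_coe, coe_mul_of_left_le_normalizer_right _ _ hn] at h8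
    obtain ⟨l, hl, t, ht, h9⟩ := h8
    rw [SetLike.mem_coe, mem_cj, inv_inv] at ht
    refine ⟨l, hl, p * t * p⁻¹, ht, ?_⟩
    have h10 : l * t = p⁻¹ * w * p⁻¹⁻¹ := h9
    have e : p * l * p⁻¹ * (p * t * p⁻¹) = p * (l * t) * p⁻¹ := by group
    rw [e, h10]
    group
  refine ⟨hnat, hx, fun e he s hs hsL => b.comm_E he ⟨hs, hsL⟩, (b.cent_conjL hx hb).le, ⟨p, hp, hspan⟩, ?_, ?_⟩
  · obtain ⟨l, hl, hlN⟩ := h.exists_conjL hx hb
    have h1 := h.conjL_le hx hl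
    exact ⟨l, h1.1, h1.2, hlN⟩
  · -- two elements of `A`
    have h1 : 2 < Nat.card h.M.R := by rw [h.M.card_R]; exact hK
    obtain ⟨z₁, hz₁, hz₁1⟩ : ∃ z ∈ h.M.R, z ≠ 1 := by
      by_contra hcon
      push Not at hcon
      have : h.M.R = ⊥ := (Subgroup.eq_bot_iff_forall _).2 hcon
      rw [this, Subgroup.card_bot] at h1
      omega
    obtain ⟨z₂, hz₂, hz₂1, hz₂z⟩ : ∃ z ∈ h.M.R, z ≠ 1 ∧ z ≠ z₁ := by
      by_contra hcon
      push Not at hcon
      have h3 : (Set.univ : Set h.M.R) ⊆ {1, ⟨z₁, hz₁⟩} := by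
        rintro ⟨z, hz⟩ -
        by_cases hz1 : z = 1
        · left; exact Subtype.ext hz1
        · right; exact Subtype.ext (hcon z hz hz1)
      have h4 := Set.ncard_le_ncard h3 (Set.toFinite _)
      rw [Set.ncard_univ] at h4
      have h5 := Set.ncard_insert_le (1 : h.M.R) {⟨z₁, hz₁⟩}
      rw [Set.ncard_singleton] at h5
      omega
    have h3 : z₁ * z₂ ≠ 1 := by
      intro h4
      apply hz₂z
      have h5 := h.hyp.inv (h.R_le_V hz₁)
      rw [← h5]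
      exact (inv_eq_of_mul_eq_one_right h4).symm
    obtain ⟨a, ha, hav⟩ := hR z₁ hz₁
    obtain ⟨a', ha', hav'⟩ := hR z₂ hz₂
    have key : ∀ {t z : G}, t * v * t⁻¹ * v⁻¹ = z → z ≠ 1 → t ∉ centralizer (zl (S : Subgroup G) P₂ : Set G) := by
      intro t z h4 h5 h6
      apply h5
      rw [← h4, ← mem_centralizer_iff.1 h6 v hv, mul_inv_cancel_right, mul_inv_cancel]
    refine ⟨p⁻¹, inv_mem hp, a, hA ▸ ha, a', hA ▸ ha', key hav hz₁1, key hav' hz₂1, key (z := z₁ * z₂) ?_ h3⟩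
    have h4 := mem_centralizer_iff.1 (f.AR ha') z₁ hz₁
    have e : a' * a * v * (a' * a)⁻¹ * v⁻¹ = (a' * (a * v * a⁻¹ * v⁻¹) * a'⁻¹) * (a' * v * a'⁻¹ * v⁻¹) := by group
    rw [e, hav, hav', ← h4, mul_inv_cancel_right]

end Fr

end Cfsg.Agent.Omega.BetaFF

end

section


/-!
# THEOREM BETA-FF(1) (helper284 #19171): UNIQ over `R`

The frame `Fr K S P V F V_P U` (`W_F ≤ S` moves the natural line `V_P`, `|K| > 2`), no pair of lines of `P*(S)` acting
on each other (`NOff`): for all `P₂ ∈ P*(S)` with `P₂ ≤ N(V)` and `V_{P₂} ≤ V ∩ U`: `V_{P₂} ≤ R` or `V_{P₂} = V_P`.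
-/

set_option autoImplicit false

namespace Cfsg.Agent.Omega.BetaFF

open Subgroup Cfsg Cfsg.Agent.Omega.NOne.Flat Cfsg.Agent.Omega.NO3S.Fld Cfsg.Agent.Omega.MinPar
open Cfsg.Agent.Omega.NOne.NearFF (c c_def)
open Cfsg.Agent.ZN (o2 zl zc)
open Cfsg.Agent.MinSimple.VModule (zc_le zc_le_zl zl_le le_o2 le_normalizer_zl le_normalizer_o2 oddGen oddGen_le)
open Cfsg.Agent.Omega.FFThm (OffM NoOverM StmtM)
open Cfsg.Agent.Omega.NO3S.BetaFF.EndB (Line PtLine Side Inp)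
open scoped Pointwise

universe u

variable {G : Type u} [Group G] [Finite G] {S : Sylow 2 G} {P P₂ V F U : Subgroup G}

/-- A natural line, over `B = C_S(R)`. -/
theorem ptLine_of {K : Type*} [Field K] (hG : IsCharacteristicTwoType G) (hP : IsParS (S : Subgroup G) P)
    (M : Crd K (S : Subgroup G) P (zl (S : Subgroup G) P)) :
    PtLine ((S : Subgroup G) ⊓ centralizer (M.R : Set G)) P M.R (zl (S : Subgroup G) P) where
  SP := inf_le_left.trans hP.le
  norm := le_normalizer_zl _ _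
  ZL := M.R_le
  comm := fun l hl s hs => by
    have h1 := inv_mem (M.comm_R hs.1 hs.2 hl)
    have e : c l s = (s * l * s⁻¹ * l⁻¹)⁻¹ := by rw [c]; group
    rw [e]
    exact h1
  core := fun g hg s hs hsL => by
    have h1 : s ∈ o2 P := by
      rw [← hP.inf_centralizer S hG]
      exact ⟨hs.1, hsL⟩
    have h2 := (mem_normalizer_iff.1 (le_normalizer_o2 P hg) s).1 h1
    rw [← hP.inf_centralizer S hG] at h2
    exact ⟨h2.1, centralizer_le M.R_le h2.2⟩
  ti := fun g hg hne => crd_ti M (le_normalizer_zl _ _) hg hne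
  mv := fun g hg hne s hs hsL => crd_mv M (le_normalizer_zl _ _) hg hne hs.1 hs.2 hsL

/-- The lines of `P*(S)` do not act on each other. -/
def NOff (S : Subgroup G) : Prop := ∀ Q, IsParS S Q → ∀ Q', IsParS S Q' → ∀ g : G,
  zl S Q ≤ MulAut.conj g • Q' → MulAut.conj g • zl S Q' ≤ Q →
    zl S Q ≤ centralizer ((MulAut.conj g • zl S Q' : Subgroup G) : Set G)

namespace Fr

variable {K : Type*} [Field K]

/-- All lines on a point `R^g ≤ F` lie in `E`. -/
theorem low_of {L : Subgroup G} (h : Fr K S P V F L U) {g : G} (hg : g ∈ normalizer (V : Set G)) {X : Subgroup G}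
    (hX : X ≤ V) (hXU : X ≤ U) (hF : MulAut.conj g • h.M.R ≤ F) : MulAut.conj g • X ≤ EE V F := by
  have h1 : MulAut.conj g • X ≤ V := by
    rw [← NOne.Flat.conj_eq_of_norm hg]
    exact Subgroup.pointwise_smul_le_pointwise_smul_iff.2 hX
  refine le_inf h1 fun x hx => ?_
  have h2 : MulAut.conj g • X ≤ o2 (centralizer ((MulAut.conj g • h.M.R : Subgroup G) : Set G)) := by
    rw [← NOne.Flat.conj_centralizer, ← NOne.Flat.o2_conj]
    exact Subgroup.pointwise_smul_le_pointwise_smul_iff.2 (hXU.trans h.Uo2)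
  exact NOne.Flat.o2_inf_le_o2 (centralizer_le hF) ⟨h2 hx, h.hyp.V_le_X (h1 hx)⟩

/-- **THEOREM BETA-FF(1), UNIQ over `R`.** -/
theorem le_or_eq (hFF : StmtM.{u}) (hG : IsCharacteristicTwoType G) (hP : IsParS (S : Subgroup G) P)
    (h : Fr K S P V F (zl (S : Subgroup G) P) U) (hK : 2 < Nat.card K) (hno : NOff (S : Subgroup G))
    (h₂ : IsParS (S : Subgroup G) P₂) (hPV : P₂ ≤ normalizer (V : Set G)) (hV : zl (S : Subgroup G) P₂ ≤ V)
    (hU : zl (S : Subgroup G) P₂ ≤ U) :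
    zl (S : Subgroup G) P₂ ≤ h.M.R ∨ zl (S : Subgroup G) P₂ = zl (S : Subgroup G) P := by
  by_contra hcon
  push Not at hcon
  obtain ⟨hne, hneq⟩ := hcon
  -- `E₂ ∩ L ≤ R`
  have hinf : zl (S : Subgroup G) P₂ ⊓ zl (S : Subgroup G) P ≤ h.M.R := by
    by_contra hn
    obtain ⟨v, hv, hvR⟩ := SetLike.not_le_iff_exists.1 hn
    exact hneq (h.four_a hFF hG hP h₂ hV hU hv.1 hv.2 hvR)
  obtain ⟨x, hx, hb⟩ := h.exists_bad
  have o := h.four_b hFF hG hP hK h₂ hV hne hinf hx hb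
  obtain ⟨F₂, _, _, _, M₂, hM₂⟩ := o.nat
  have hWB : WW V F ≤ (S : Subgroup G) ⊓ centralizer (h.M.R : Set G) := le_inf h.WS h.WR
  have l1 := (ptLine_of hG hP h.M).toLine
  have l2 := ptLine_of hG h₂ M₂
  rw [hM₂] at l2
  have inp : Inp V F ((S : Subgroup G) ⊓ centralizer (h.M.R : Set G)) P P₂ h.M.R (zl (S : Subgroup G) P)
      (zl (S : Subgroup G) P₂) x :=
    { hyp := h.hyp
      WS := hWB
      l := l1
      l₂ := l2
      LV := h.LV
      L₂V := hV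
      PV := h.PV
      P₂V := hPV
      ZF := h.R_le_F
      low := fun g hg hF => h.low_of (hPV hg) h.LV h.LU hF
      low₂ := h.zl_le_E hV hU
      noff := fun g h1 h2 => hno P hP P hP g h1 h2
      noff₂ := fun g h1 h2 => hno P₂ h₂ P hP g h1 h2
      hx := hx
      D := o.D
      inf := by rw [inf_comm]; exact hinf }
  refine inp.false_of h.mv ⟨o.E, o.span⟩ (fun hm => ?_) o.hB o.hA ?_
  · -- the frame of `P₂`
    obtain ⟨fr₂, hfr⟩ : ∃ fr : Fr F₂ S P₂ V F (zl (S : Subgroup G) P₂) U, fr.M.R = h.M.R := ⟨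
      { hyp := h.hyp
        SP := h₂.le
        PV := hPV
        PL := le_normalizer_zl _ _
        LV := hV
        M := M₂
        WS := h.WS
        WR := by rw [hM₂]; exact h.WR
        mv := hm
        PQ := by rw [h₂.inf_centralizer S hG]; exact le_normalizer_o2 P₂
        LU := hU
        Ucomm := h.Ucomm
        Uo2 := by rw [hM₂]; exact h.Uo2
        UN := by rw [hM₂]; exact h.UN }, hM₂⟩
    have hcK : 2 < Nat.card F₂ := by rw [← M₂.card_R, hM₂, h.M.card_R]; exact hK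
    have o₂ := fr₂.four_b hFF hG h₂ hcK hP h.LV (by
      rw [hfr]
      obtain ⟨v, hv, hvR⟩ := h.M.exists_ne_R
      exact fun hle => hvR (hle hv)) (by
      rw [hfr, inf_comm]
      exact hinf) hx hb
    have hE := o₂.E
    rw [hfr] at hE
    exact ⟨hE, o₂.span⟩
  · obtain ⟨g, hg, h1⟩ := crd_exists_mv M₂
    rw [hM₂] at h1
    exact ⟨g, hg, h1⟩

end Fr

end Cfsg.Agent.Omega.BetaFF

end
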