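import Cfsg.Agent.Mrg.Omega.Spread.ElatOf
import Cfsg.Agent.Mrg.Omega.NO3S.Fld.Mods
import Cfsg.Agent.Mrg.Omega.NOne.LemmaT

section


/-!
# THEOREM BETA-FF(1) (helper284 #19171): the frame

`F` a maximal bad subgroup of `V`, `E = V ∩ O₂(C_G(F))`, `W = W_F`, `N = C_W(E)` (THEOREM FLAT); `L ≤ V` a natural
`SL₂(r)`-module of `P` (adapted coordinates `M : Crd K S P L`), `R` the root line of `L` (`R = Z` if `S` induces no
field automorphism), `W ≤ C_S(R)` moves `L`, `Q = C_S(L)`, `B₁ = C_W(L)`; `U` an abelian group which contains `L`, normalised by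
`C_G(R)`, in `O₂(C_G(R))` (the group generated by the lines on `R`).
-/

set_option autoImplicit false

namespace Cfsg.Agent.Omega.BetaFF

open Subgroup Cfsg Cfsg.Agent.Omega.NOne.Flat Cfsg.Agent.Omega.NO3S.Fld
open Cfsg.Agent.Omega.NOne.NearFF (c c_def)
open Cfsg.Agent.ZN (o2)
open scoped Pointwise

universe u

set_option maxHeartbeats 400000

/-- **The frame of BETA-FF(1).** `K` the field of `r` elements; `M.R` is the root line `R` (`= Z` without field
automorphisms). -/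
structure Fr (K : Type*) [Field K] {G : Type u} [Group G] [Finite G] (S : Sylow 2 G) (P V F L U : Subgroup G) where
  hyp : NOne.Flat.Hyp V F
  SP : (S : Subgroup G) ≤ P
  /-- `V` is `P`-invariant -/
  PV : P ≤ normalizer (V : Set G)
  PL : P ≤ normalizer (L : Set G)
  LV : L ≤ V
  M : Crd K (S : Subgroup G) P L
  /-- `W ≤ S` -/
  WS : WW V F ≤ (S : Subgroup G)
  /-- `W` induces no field automorphism -/
  WR : WW V F ≤ centralizer (M.R : Set G)
  /-- `W` moves `L` -/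
  mv : ¬ WW V F ≤ centralizer (L : Set G)
  /-- `C_S(L) = O₂(P)` -/
  PQ : P ≤ normalizer (((S : Subgroup G) ⊓ centralizer (L : Set G) : Subgroup G) : Set G)
  LU : L ≤ U
  Ucomm : U ≤ centralizer (U : Set G)
  Uo2 : U ≤ o2 (centralizer (M.R : Set G))
  UN : centralizer (M.R : Set G) ≤ normalizer (U : Set G)

namespace Fr

variable {K : Type*} [Field K] {G : Type u} [Group G] [Finite G] {S : Sylow 2 G} {P V F L U : Subgroup G}

/-- `Q = C_S(L)` -/
abbrev Q (_h : Fr K S P V F L U) : Subgroup G := (S : Subgroup G) ⊓ centralizer (L : Set G)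

/-- `B₁ = C_W(L)` -/
abbrev B1 (_h : Fr K S P V F L U) : Subgroup G := WW V F ⊓ centralizer (L : Set G)

variable (h : Fr K S P V F L U)
include h

theorem R_le_L : h.M.R ≤ L := h.M.R_le

theorem R_le_V : h.M.R ≤ V := h.M.R_le.trans h.LV

theorem B1_le_Q : h.B1 ≤ h.Q := inf_le_inf_right _ h.WS

theorem B1_le_W : h.B1 ≤ WW V F := inf_le_left

/-- `R ≤ F` -/
theorem R_le_F : h.M.R ≤ F := by
  refine (le_inf h.R_le_V ?_).trans h.hyp.cent_VW.le
  intro z hz
  rw [mem_centralizer_iff]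
  intro w hw
  exact (mem_centralizer_iff.1 (h.WR hw) z hz).symm

theorem CF_le_CR : centralizer (F : Set G) ≤ centralizer (h.M.R : Set G) := centralizer_le h.R_le_F

/-- `V ∩ U ≤ E` -/
theorem VU_le_E : V ⊓ U ≤ EE V F := by
  refine le_inf inf_le_left ?_
  have h1 : V ⊓ U ≤ o2 (centralizer (h.M.R : Set G)) ⊓ centralizer (F : Set G) :=
    le_inf (inf_le_right.trans h.Uo2) (inf_le_left.trans h.hyp.V_le_X)
  refine h1.trans ?_
  refine MinSimple.VModule.le_o2 inf_le_right ((ZN.isPGroup_o2 _).to_le inf_le_left) ?_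
  intro x hx
  have h2 := MinSimple.VModule.le_normalizer_o2 (centralizer (h.M.R : Set G)) (h.CF_le_CR hx)
  have h3 : x ∈ normalizer (centralizer (F : Set G) : Set G) := Subgroup.le_normalizer hx
  rw [mem_normalizer_iff] at h2 h3 ⊢
  intro y
  rw [mem_inf, mem_inf, ← h2 y, ← h3 y]

theorem L_le_VU : L ≤ V ⊓ U := le_inf h.LV h.LU

theorem L_le_E : L ≤ EE V F := h.L_le_VU.trans h.VU_le_E

/-- `L ∩ F = R` -/
theorem L_inf_F : L ⊓ F = h.M.R := by
  apply le_antisymm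
  · rintro v ⟨hvL, hvF⟩
    obtain ⟨w, hw, hwL⟩ := SetLike.not_le_iff_exists.1 h.mv
    have hwX : w ∈ centralizer (F : Set G) := NOne.Flat.Hyp.W_le_X (V := V) (F := F) hw
    exact h.M.fix (h.WS hw) (h.WR hw) hwL hvL (NOne.Flat.Hyp.F_comm hvF hwX).symm
  · exact le_inf h.R_le_L h.R_le_F

theorem L_inf_CW : L ⊓ centralizer (WW V F : Set G) = h.M.R := by
  rw [← h.L_inf_F]
  apply le_antisymm
  · exact le_inf inf_le_left ((inf_le_inf_right _ h.LV).trans h.hyp.cent_VW.le)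
  · exact le_inf inf_le_left (inf_le_right.trans (h.hyp.cent_VW.ge.trans inf_le_right))

end Fr

end Cfsg.Agent.Omega.BetaFF

end

section


/-!
# THEOREM BETA-FF(1) (helper284 #19171), section (0)

`r = |K|`.  `W` induces every root element on `L` (`exists_act`), `|W : B₁| = r`, `C_E(B₁) = C_V(B₁) = L F`,
`L^x ≤ B₁`, `L^x ∩ N = R` for bad `x ∈ C_G(F)`, and ISOTROPY `|Y : Y ∩ F|² ≤ |W : N|` for `Y = V ∩ U`.
-/

set_option autoImplicit false

namespace Cfsg.Agent.Omega.BetaFF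

open Subgroup Cfsg Cfsg.Agent.Omega.NOne.Flat Cfsg.Agent.Omega.NO3S.Fld
open Cfsg.Agent.Omega.NOne.NearFF (c c_def)
open Cfsg.Agent.ZN (o2)
open scoped Pointwise

universe u

namespace Fr

variable {K : Type*} [Field K] {G : Type u} [Group G] [Finite G] {S : Sylow 2 G} {P V F L U : Subgroup G}
  (h : Fr K S P V F L U)
include h

theorem finK : Finite K := by
  refine Finite.of_injective (fun a : K => h.M.e ![a, 0]) fun a b hab => ?_
  have := congrFun (h.M.e_inj hab) 0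
  simpa using this

theorem card_pos : 0 < Nat.card K := by
  have := h.finK
  exact Nat.card_pos

theorem one_lt_card : 1 < Nat.card K := by
  have := h.finK
  exact Finite.one_lt_card

theorem relIndex_R_L : h.M.R.relIndex L = Nat.card K := by
  have h1 := card_mul_relIndex' h.M.R_le
  rw [h.M.card_R, h.M.card_V] at h1
  exact Nat.eq_of_mul_eq_mul_left h.card_pos h1

theorem exists_root {w : G} (hw : w ∈ WW V F) : ∃ a, h.M.Act w (RingEquiv.refl K) a :=
  h.M.exists_root (h.WS hw) (h.WR hw)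

/-- the root parameter of `w ∈ W` -/
noncomputable def par : WW V F →* Multiplicative K where
  toFun w := Multiplicative.ofAdd (h.exists_root w.2).choose
  map_one' := by
    have h1 := (h.exists_root (one_mem (WW V F))).choose_spec
    have h2 := (h1.unique Crd.act_one').2
    exact congrArg Multiplicative.ofAdd h2
  map_mul' a b := by
    have h1 := (h.exists_root (a * b).2).choose_spec
    have ha := (h.exists_root a.2).choose_spec
    have hb := (h.exists_root b.2).choose_spec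
    have h2 := (h1.unique (ha.mul hb)).2
    exact congrArg Multiplicative.ofAdd h2

theorem act_par (w : WW V F) : h.M.Act (w : G) (RingEquiv.refl K) (h.par w).toAdd :=
  (h.exists_root w.2).choose_spec

theorem ker_par : h.par.ker = (centralizer (L : Set G)).subgroupOf (WW V F) := by
  ext w
  rw [MonoidHom.mem_ker, mem_subgroupOf, (h.act_par w).mem_centV]
  constructor
  · intro h1
    exact ⟨rfl, by rw [h1]; rfl⟩
  · rintro ⟨-, h1⟩
    exact Multiplicative.toAdd.injective h1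

/-- `r ≤ |W : C_W(L)|` -/
theorem le_relIndex : Nat.card K ≤ (centralizer (L : Set G)).relIndex (WW V F) := by
  have h1 := h.hyp.off_of_le_all h.L_le_E
  rw [← inf_relIndex_left, h.L_inf_CW, h.relIndex_R_L] at h1
  exact h1

theorem par_surj : Function.Surjective h.par := by
  have := h.finK
  rw [← MonoidHom.range_eq_top]
  have h1 : Nat.card h.par.range = (centralizer (L : Set G)).relIndex (WW V F) := by
    rw [← Subgroup.index_ker, h.ker_par]
    rfl
  refine Subgroup.eq_top_of_le_card _ ?_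
  rw [h1]
  exact h.le_relIndex

/-- **(0)** `W` induces the full root group on `L`. -/
theorem exists_act (a : K) : ∃ w ∈ WW V F, h.M.Act w (RingEquiv.refl K) a := by
  obtain ⟨w, hw⟩ := h.par_surj (Multiplicative.ofAdd a)
  refine ⟨w, w.2, ?_⟩
  have := h.act_par w
  rwa [hw] at this

theorem relIndex_cent : (centralizer (L : Set G)).relIndex (WW V F) = Nat.card K := by
  have h1 : Nat.card h.par.range = (centralizer (L : Set G)).relIndex (WW V F) := by
    rw [← Subgroup.index_ker, h.ker_par]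
    rfl
  rw [← h1, MonoidHom.range_eq_top.2 h.par_surj, Nat.card_congr (Subgroup.topEquiv (G := Multiplicative K)).toEquiv]
  rfl

theorem relIndex_B1 : h.B1.relIndex (WW V F) = Nat.card K := by
  have h1 : (WW V F ⊓ centralizer (L : Set G)).relIndex (WW V F) = (centralizer (L : Set G)).relIndex (WW V F) :=
    inf_relIndex_left _ _
  exact h1.trans h.relIndex_cent

/-! ### `C_E(B₁)` -/

theorem L_le_CB1 : L ≤ centralizer (h.B1 : Set G) := by
  intro l hl
  rw [mem_centralizer_iff]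
  exact fun b hb => (mem_centralizer_iff.1 hb.2 l hl).symm

theorem F_le_CB1 : F ≤ centralizer (h.B1 : Set G) := by
  intro f hf
  rw [mem_centralizer_iff]
  intro b hb
  have hbX : b ∈ centralizer (F : Set G) := NOne.Flat.Hyp.W_le_X (V := V) (F := F) hb.1
  exact (mem_centralizer_iff.1 hbX f hf).symm

theorem F_le_CW : F ≤ centralizer (WW V F : Set G) := h.hyp.cent_VW.ge.trans inf_le_right

theorem card_LF : Nat.card ↥(L ⊔ F) = Nat.card K * Nat.card F := by
  have hn : L ≤ normalizer (F : Set G) :=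
    (h.LV.trans h.hyp.V_le_X).trans (centralizer_le_normalizer _)
  have h1 := NOne.Flat.Off.card_sup_mul_inf hn
  rw [h.L_inf_F, h.M.card_R, h.M.card_V] at h1
  have h2 := h.card_pos
  refine Nat.eq_of_mul_eq_mul_right h2 ?_
  rw [h1]
  ring

/-- **(0)** `C_E(B₁) = L F` -/
theorem cent_E : EE V F ⊓ centralizer (h.B1 : Set G) = L ⊔ F := by
  symm
  have hle : L ⊔ F ≤ EE V F ⊓ centralizer (h.B1 : Set G) :=
    sup_le (le_inf h.L_le_E h.L_le_CB1) (le_inf h.hyp.F_le_E h.F_le_CB1)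
  refine Subgroup.eq_of_le_of_card_ge hle ?_
  set Y : Subgroup G := EE V F ⊓ centralizer (h.B1 : Set G) with hY
  have hFY : F ≤ Y := le_sup_right.trans hle
  have h1 := h.hyp.off_of_le_all (inf_le_left : Y ≤ EE V F)
  have h2 : (centralizer (WW V F : Set G)).relIndex Y = F.relIndex Y := by
    rw [← inf_relIndex_right]
    congr 1
    apply le_antisymm
    · rintro y ⟨hy, hyY⟩
      exact h.hyp.cent_VW.le ⟨hyY.1.1, hy⟩
    · exact le_inf h.F_le_CW hFY
  have h3 : (centralizer (Y : Set G)).relIndex (WW V F) ≤ Nat.card K := by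
    rw [← h.relIndex_B1]
    refine Subgroup.relIndex_le_of_le_left ?_ ?_
    · intro b hb
      rw [mem_centralizer_iff]
      exact fun y hy => (mem_centralizer_iff.1 hy.2 b hb).symm
    · rw [h.relIndex_B1]
      exact h.card_pos.ne'
  rw [h.card_LF, ← card_mul_relIndex' hFY, mul_comm]
  refine Nat.mul_le_mul_right _ ?_
  rw [← h2]
  exact h1.trans h3

/-- `[v, s] ∈ R` for `v ∈ L F`, `s ∈ W` -/
theorem comm_LF {v s : G} (hv : v ∈ L ⊔ F) (hs : s ∈ WW V F) : c v s ∈ h.M.R := by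
  have hn : L ≤ normalizer (F : Set G) :=
    (h.LV.trans h.hyp.V_le_X).trans (centralizer_le_normalizer _)
  rw [← SetLike.mem_coe, coe_mul_of_left_le_normalizer_right L F hn] at hv
  obtain ⟨l, hl, f, hf, rfl⟩ := hv
  have h1 : c (l * f) s = c l s := by
    have h2 := h.hyp.c_mul_left (h.LV hl) (h.hyp.F_le_V hf) hs
    rw [h2, NOne.Flat.Hyp.c_F hf hs, mul_one]
  show c (l * f) s ∈ h.M.R
  rw [h1]
  have h2 := inv_mem (h.M.comm_R (h.WS hs) (h.WR hs) hl)
  have e : c l s = (s * l * s⁻¹ * l⁻¹)⁻¹ := by rw [c]; group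
  rw [e]
  exact h2

/-! ### `L^x` for bad `x` -/

theorem exists_bad : ∃ x ∈ centralizer (F : Set G), BadX V x := by
  obtain ⟨w, hw, hwE⟩ := h.hyp.exists_not_mem
  obtain ⟨x, hx, hb, -⟩ := h.hyp.exists_near hw hwE
  exact ⟨x, hx, hb⟩

theorem conjU {x : G} (hx : x ∈ centralizer (F : Set G)) : MulAut.conj x • U = U :=
  NOne.Flat.conj_eq_of_norm (h.UN (h.CF_le_CR hx))

theorem conjL_le_W {x : G} (hx : x ∈ centralizer (F : Set G)) : MulAut.conj x • L ≤ WW V F :=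
  (Subgroup.pointwise_smul_le_pointwise_smul_iff.2 h.L_le_E).trans (NOne.Flat.Hyp.conjE_le_W hx)

theorem conjL_le_U {x : G} (hx : x ∈ centralizer (F : Set G)) : MulAut.conj x • L ≤ U := by
  have h1 : MulAut.conj x • L ≤ MulAut.conj x • U := Subgroup.pointwise_smul_le_pointwise_smul_iff.2 h.LU
  rwa [h.conjU hx] at h1

/-- `L^x ≤ B₁` -/
theorem conjL_le {x : G} (hx : x ∈ centralizer (F : Set G)) : MulAut.conj x • L ≤ h.B1 :=
  le_inf (h.conjL_le_W hx) ((h.conjL_le_U hx).trans (h.Ucomm.trans (centralizer_le h.LU)))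

theorem conjR {x : G} (hx : x ∈ centralizer (F : Set G)) : MulAut.conj x • h.M.R = h.M.R :=
  NOne.Flat.conj_eq_of_cent (h.CF_le_CR hx)

theorem conjL_inf_F {x : G} (hx : x ∈ centralizer (F : Set G)) : MulAut.conj x • L ⊓ F = h.M.R := by
  have h1 : MulAut.conj x • (L ⊓ F) = MulAut.conj x • h.M.R := by rw [h.L_inf_F]
  rw [h.conjR hx, Subgroup.smul_inf] at h1
  have h2 : MulAut.conj x • F = F := NOne.Flat.conj_eq_of_cent hx
  rw [← h1]
  exact congrArg (fun T => MulAut.conj x • L ⊓ T) h2.symm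

/-- `L^x ∩ N = R` for bad `x` -/
theorem conjL_inf {x : G} (hx : x ∈ centralizer (F : Set G)) (hb : BadX V x) :
    MulAut.conj x • L ⊓ NN V F = h.M.R := by
  apply le_antisymm
  · rintro y ⟨hy, hyN⟩
    rw [← SetLike.mem_coe, ← h.conjL_inf_F hx]
    refine ⟨hy, ?_⟩
    have h1 : y ∈ MulAut.conj x • EE V F ⊓ NN V F :=
      ⟨Subgroup.pointwise_smul_le_pointwise_smul_iff.2 h.L_le_E hy, hyN⟩
    exact (h.hyp.conjE_inf_NN hx hb).le h1
  · refine le_inf ?_ (h.R_le_F.trans h.hyp.F_le_NN)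
    exact (h.conjL_inf_F hx).ge.trans inf_le_left

theorem exists_conjL {x : G} (hx : x ∈ centralizer (F : Set G)) (hb : BadX V x) :
    ∃ l ∈ MulAut.conj x • L, l ∉ NN V F := by
  by_contra hcon
  push Not at hcon
  have h1 : MulAut.conj x • L ≤ h.M.R := (le_inf le_rfl hcon).trans (h.conjL_inf hx hb).le
  have h2 : Nat.card ↥(MulAut.conj x • L) = Nat.card L := Nat.card_congr (Subgroup.equivSMul _ L).toEquiv.symm
  have h3 := Subgroup.card_le_of_le h1
  rw [h2, h.M.card_V, h.M.card_R] at h3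
  have h4 := h.one_lt_card
  nlinarith

/-- **(0)** `C_V(B₁) = L F` -/
theorem cent_V : V ⊓ centralizer (h.B1 : Set G) = L ⊔ F := by
  apply le_antisymm
  · rintro v ⟨hv, hvB⟩
    rw [← SetLike.mem_coe, ← h.cent_E]
    refine ⟨?_, hvB⟩
    by_contra hvE
    obtain ⟨x, hx, hb⟩ := h.exists_bad
    obtain ⟨l, hl, hlN⟩ := h.exists_conjL hx hb
    have hlB := h.conjL_le hx hl
    apply hlN
    rw [← h.hyp.c_mem_F_iff hv hvE hlB.1]
    have h1 : c v l = 1 := by
      rw [c_def, ← mem_centralizer_iff.1 hvB l hlB]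
      group
    rw [h1]
    exact one_mem _
  · exact h.cent_E.ge.trans (inf_le_inf_right _ inf_le_left)

/-! ### ISOTROPY -/

/-- **(0) ISOTROPY** `|Y : Y ∩ F|² ≤ |W : N|` for `Y = V ∩ U`. -/
theorem iso : F.relIndex (V ⊓ U) * F.relIndex (V ⊓ U) ≤ (NN V F).relIndex (WW V F) := by
  obtain ⟨x, hx, hb⟩ := h.exists_bad
  set Y : Subgroup G := V ⊓ U with hY
  have hYE : Y ≤ EE V F := h.VU_le_E
  set C : Subgroup G := WW V F ⊓ centralizer (Y : Set G) with hC
  have hNC : NN V F ≤ C := inf_le_inf_left _ (centralizer_le hYE)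
  have hYx : MulAut.conj x • Y ≤ C := by
    refine le_inf ?_ ?_
    · exact (Subgroup.pointwise_smul_le_pointwise_smul_iff.2 hYE).trans (NOne.Flat.Hyp.conjE_le_W hx)
    · have h1 : MulAut.conj x • Y ≤ MulAut.conj x • U := Subgroup.pointwise_smul_le_pointwise_smul_iff.2 inf_le_right
      rw [h.conjU hx] at h1
      exact h1.trans (h.Ucomm.trans (centralizer_le inf_le_right))
  have h1 := relIndex_mul_relIndex (NN V F) C (WW V F) hNC inf_le_left
  rw [← h1]
  have h2 : F.relIndex Y = (NN V F).relIndex (MulAut.conj x • Y) := by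
    have e1 : (NN V F).relIndex (MulAut.conj x • Y) = F.relIndex (MulAut.conj x • Y) := by
      rw [← inf_relIndex_right (NN V F), ← inf_relIndex_right F]
      congr 1
      apply le_antisymm
      · rintro y ⟨hy, hyY⟩
        have h3 : y ∈ MulAut.conj x • EE V F ⊓ NN V F :=
          ⟨Subgroup.pointwise_smul_le_pointwise_smul_iff.2 hYE hyY, hy⟩
        exact ⟨(h.hyp.conjE_inf_NN hx hb).le h3, hyY⟩
      · exact inf_le_inf_right _ h.hyp.F_le_NN
    have e2 : F.relIndex (MulAut.conj x • Y) = (MulAut.conj x • F).relIndex (MulAut.conj x • Y) := by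
      rw [NOne.Flat.conj_eq_of_cent hx]
    rw [e1, e2, Subgroup.relIndex_pointwise_smul]
  have h3 : (NN V F).relIndex (MulAut.conj x • Y) ≤ (NN V F).relIndex C :=
    Subgroup.relIndex_le_of_le_right hYx Subgroup.index_ne_zero_of_finite
  have h4 : F.relIndex Y ≤ C.relIndex (WW V F) := by
    have h5 := h.hyp.off_of_le_all hYE
    have h6 : (centralizer (WW V F : Set G)).relIndex Y = F.relIndex Y := by
      rw [← inf_relIndex_right, ← inf_relIndex_right F]
      congr 1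
      apply le_antisymm
      · rintro y ⟨hy, hyY⟩
        exact ⟨h.hyp.cent_VW.le ⟨hyY.1, hy⟩, hyY⟩
      · exact inf_le_inf_right _ h.F_le_CW
    have h7 : C.relIndex (WW V F) = (centralizer (Y : Set G)).relIndex (WW V F) := inf_relIndex_left _ _
    rw [h6] at h5
    rw [h7]
    exact h5
  exact Nat.mul_le_mul (h2.le.trans h3) h4

end Fr

end Cfsg.Agent.Omega.BetaFF

end

section


/-!
# THEOREM BETA-FF(1) (helper284 #19171): the points `R^p`, `p ∈ P`, of `L`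
-/

set_option autoImplicit false

namespace Cfsg.Agent.Omega.BetaFF

open Subgroup Cfsg Cfsg.Agent.Omega.NOne.Flat Cfsg.Agent.Omega.NO3S.Fld
open Cfsg.Agent.Omega.NOne.NearFF (c c_def)
open Cfsg.Agent.ZN (o2)
open Cfsg.Agent.Omega.NatPair (ap ap_zero' ap_one' ext2)
open Cfsg.Agent.Lib.SL2Mat
open scoped Pointwise

universe u

/-- `x ∈ H^g ↔ g⁻¹ x g ∈ H` -/
theorem mem_cj {G : Type u} [Group G] {H : Subgroup G} {g x : G} :
    x ∈ MulAut.conj g • H ↔ g⁻¹ * x * g ∈ H := by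
  rw [Subgroup.mem_pointwise_smul_iff_inv_smul_mem, ← map_inv, MulAut.smul_def, MulAut.conj_apply, inv_inv]

theorem cj_mem_cj {G : Type u} [Group G] {H : Subgroup G} {g x : G} (hx : x ∈ H) :
    g * x * g⁻¹ ∈ MulAut.conj g • H := by
  rw [mem_cj]
  have e : g⁻¹ * (g * x * g⁻¹) * g = x := by group
  rwa [e]

theorem card_cj {G : Type u} [Group G] (g : G) (H : Subgroup G) :
    Nat.card ↥(MulAut.conj g • H) = Nat.card H :=
  Nat.card_congr (Subgroup.equivSMul _ H).toEquiv.symm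

namespace Fr

variable {K : Type*} [Field K] {G : Type u} [Group G] [Finite G] {S : Sylow 2 G} {P V F L U : Subgroup G}
  (h : Fr K S P V F L U)
include h

theorem cjL {p : G} (hp : p ∈ P) : MulAut.conj p • L = L := NOne.Flat.conj_eq_of_norm (h.PL hp)

theorem cjV {p : G} (hp : p ∈ P) : MulAut.conj p • V = V := NOne.Flat.conj_eq_of_norm (h.PV hp)

theorem pt_le {p : G} (hp : p ∈ P) : MulAut.conj p • h.M.R ≤ L := by
  have h1 : MulAut.conj p • h.M.R ≤ MulAut.conj p • L := Subgroup.pointwise_smul_le_pointwise_smul_iff.2 h.M.R_le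
  rwa [h.cjL hp] at h1

theorem card_pt (p : G) : Nat.card ↥(MulAut.conj p • h.M.R) = Nat.card K := by
  rw [card_cj, h.M.card_R]

/-- Two different points are disjoint. -/
theorem pt_inf_R {p : G} (hp : p ∈ P) (hne : MulAut.conj p • h.M.R ≠ h.M.R) :
    MulAut.conj p • h.M.R ⊓ h.M.R = ⊥ := by
  rw [eq_bot_iff]
  rintro z ⟨hz, hzR⟩
  rw [mem_bot]
  by_contra hz1
  apply hne
  -- a root element `t`
  obtain ⟨t, htS, htR, ht⟩ := h.M.exists_full 1
  have htL : t ∉ centralizer (L : Set G) := fun hc => one_ne_zero (ht.mem_centV.1 hc).2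
  obtain ⟨B, hB⟩ := h.M.norm p hp t (up 1) (fun x => by
    rw [ht x]
    congr 1
    apply ext2
    · rw [ap_zero', up_00, up_01]; simp
    · rw [ap_one', up_10, up_11]; simp)
  obtain ⟨a, rfl⟩ := hzR
  have ha : a ≠ 0 := by
    rintro rfl
    apply hz1
    rw [← h.M.e_zero]
    congr 1
    apply ext2 <;> simp
  -- `z` commutes with `t^p`
  have hzt : p * t * p⁻¹ * h.M.e ![a, 0] * (p * t * p⁻¹)⁻¹ = h.M.e ![a, 0] := by
    have h1 := mem_centralizer_iff.1 htR _ (mem_cj.1 hz)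
    have h2 := congrArg (fun s => p * s * p⁻¹) h1
    have h3 : h.M.e ![a, 0] * (p * t * p⁻¹) = p * t * p⁻¹ * h.M.e ![a, 0] := by
      simpa [mul_assoc] using h2
    rw [← h3, mul_inv_cancel_right]
  have h4 := h.M.e_inj ((hB _).symm.trans hzt)
  have h5 := congrFun h4 0
  have h6 := congrFun h4 1
  rw [ap_zero'] at h5
  rw [ap_one'] at h6
  simp only [Matrix.cons_val_zero, Matrix.cons_val_one, mul_zero, add_zero] at h5 h6
  have hB0 : ent B 0 0 = 1 := by
    have : ent B 0 0 * a = 1 * a := by rw [h5, one_mul]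
    exact mul_right_cancel₀ ha this
  have hB1 : ent B 1 0 = 0 := (mul_eq_zero.1 h6).resolve_right ha
  -- so `t^p` centralises `R`
  have hle : h.M.R ≤ MulAut.conj p • h.M.R := by
    rintro _ ⟨b, rfl⟩
    have h7 : p * t * p⁻¹ * h.M.e ![b, 0] * (p * t * p⁻¹)⁻¹ = h.M.e ![b, 0] := by
      rw [hB]
      congr 1
      apply ext2
      · rw [ap_zero', hB0]; simp
      · rw [ap_one', hB1]; simp
    rw [mem_cj]
    refine h.M.fix htS htR htL ?_ ?_
    · rw [← mem_cj, h.cjL hp]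
      exact h.M.e_mem _
    · rw [mul_inv_eq_iff_eq_mul] at h7
      have h2 := congrArg (fun s => p⁻¹ * s * p) h7
      simpa [mul_assoc] using h2
  symm
  refine Subgroup.eq_of_le_of_card_ge hle ?_
  rw [h.card_pt, h.M.card_R]

theorem pt_inf_F {p : G} (hp : p ∈ P) (hne : MulAut.conj p • h.M.R ≠ h.M.R) :
    MulAut.conj p • h.M.R ⊓ F = ⊥ := by
  rw [eq_bot_iff, ← h.pt_inf_R hp hne]
  exact le_inf inf_le_left ((inf_le_inf_right _ (h.pt_le hp)).trans h.L_inf_F.le)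

/-- `s ∈ W - C(L)` moves every point `≠ R`, to a disjoint one. -/
theorem pt_move {p s : G} (hp : p ∈ P) (hne : MulAut.conj p • h.M.R ≠ h.M.R) (hs : s ∈ WW V F)
    (hsL : s ∉ centralizer (L : Set G)) {y : G} (hy : y ∈ MulAut.conj p • h.M.R)
    (hy' : s * y * s⁻¹ ∈ MulAut.conj p • h.M.R) : y = 1 := by
  have h1 : s * y * s⁻¹ * y⁻¹ ∈ MulAut.conj p • h.M.R ⊓ h.M.R :=
    ⟨Subgroup.mul_mem _ hy' (Subgroup.inv_mem _ hy), h.M.comm_R (h.WS hs) (h.WR hs) (h.pt_le hp hy)⟩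
  rw [h.pt_inf_R hp hne, mem_bot, mul_inv_eq_one, mul_inv_eq_iff_eq_mul] at h1
  have h2 := h.M.fix (h.WS hs) (h.WR hs) hsL (h.pt_le hp hy) h1
  have h3 : y ∈ MulAut.conj p • h.M.R ⊓ h.M.R := ⟨hy, h2⟩
  rwa [h.pt_inf_R hp hne, mem_bot] at h3

end Fr

end Cfsg.Agent.Omega.BetaFF

end

section


/-!
# THEOREM BETA-FF(1) (helper284 #19171), section (3): the bad facts

`BadAt h w p` : `w ∈ V - E`, `[w, B₁] ≤ R^p ≠ R`, `p ∈ P`.  Then, with `r = |K|`, `x ∈ C_G(F)` bad: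
`V ∩ U ≤ L F`, `|E : F| = |W : N| = r²`, `|B₁ : N| = r`, `B₁ = L^x N`, `[w, L^x] = R^p`, `C_V(L^x) = L F`,
`[E, B₁] ≤ R`, `|V : E| ≤ r`; and `BadAt.of` : (f).
-/

set_option autoImplicit false

namespace Cfsg.Agent.Omega.BetaFF

open Subgroup Cfsg Cfsg.Agent.Omega.NOne.Flat Cfsg.Agent.Omega.NO3S.Fld
open Cfsg.Agent.Omega.NOne.NearFF (c c_def)
open Cfsg.Agent.ZN (o2)
open scoped Pointwise

universe u

variable {K : Type*} [Field K] {G : Type u} [Group G] [Finite G] {S : Sylow 2 G} {P V F L U : Subgroup G}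

/-- **Bad**: `w ∈ V - E`, `[w, B₁] ≤ R^p ≠ R`. -/
structure BadAt (h : Fr K S P V F L U) (w p : G) : Prop where
  wV : w ∈ V
  wE : w ∉ EE V F
  pP : p ∈ P
  ne : MulAut.conj p • h.M.R ≠ h.M.R
  com : ∀ b ∈ h.B1, c w b ∈ MulAut.conj p • h.M.R

namespace Fr

variable (h : Fr K S P V F L U)
include h

theorem NN_le_B1 : NN V F ≤ h.B1 := inf_le_inf_left _ (centralizer_le h.L_le_E)

theorem F_relIndex_L : F.relIndex L = Nat.card K := by
  rw [← h.relIndex_R_L, ← inf_relIndex_left L F, h.L_inf_F]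

theorem NN_relIndex_conjL {x : G} (hx : x ∈ centralizer (F : Set G)) (hb : BadX V x) :
    (NN V F).relIndex (MulAut.conj x • L) = Nat.card K := by
  rw [← inf_relIndex_left (MulAut.conj x • L) (NN V F), h.conjL_inf hx hb, ← h.relIndex_R_L]
  have h1 : h.M.R.relIndex (MulAut.conj x • L) = (MulAut.conj x • h.M.R).relIndex (MulAut.conj x • L) := by
    rw [h.conjR hx]
  rw [h1, Subgroup.relIndex_pointwise_smul]

theorem card_le_LF {Y : Subgroup G} (hY : Y ≤ V) (hYF : F.relIndex Y ≤ Nat.card K) (hLY : L ≤ Y) : Y ≤ L ⊔ F := by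
  have hn : Y ≤ normalizer (F : Set G) := (hY.trans h.hyp.V_le_X).trans (centralizer_le_normalizer _)
  have h1 := NOne.Flat.Off.card_sup_mul_inf hn
  have h2 := card_mul_relIndex' (inf_le_left : Y ⊓ F ≤ Y)
  rw [inf_relIndex_left] at h2
  have h3 : Nat.card ↥(Y ⊔ F) ≤ Nat.card ↥(L ⊔ F) := by
    rw [h.card_LF]
    have h4 : 0 < Nat.card ↥(Y ⊓ F) := Nat.card_pos
    rw [← h2] at h1
    have h5 : Nat.card ↥(Y ⊔ F) = F.relIndex Y * Nat.card F := by
      refine Nat.eq_of_mul_eq_mul_right h4 ?_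
      rw [h1]
      ring
    rw [h5]
    exact Nat.mul_le_mul_right _ hYF
  have h6 : L ⊔ F = Y ⊔ F := Subgroup.eq_of_le_of_card_ge (sup_le_sup_right hLY F) h3
  rw [h6]
  exact le_sup_left

end Fr

namespace BadAt

variable {h : Fr K S P V F L U} {w p : G} (b : BadAt h w p)
include b

theorem F_relIndex_pt : F.relIndex (MulAut.conj p • h.M.R) = Nat.card K := by
  rw [← inf_relIndex_left, h.pt_inf_F b.pP b.ne, relIndex_bot_left, h.card_pt]

theorem cos {A : Subgroup G} (hA : A ≤ h.B1) : Cos (c w) A (NN V F) (MulAut.conj p • h.M.R) F where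
  mem := fun s hs => b.com s (hA hs)
  iff := fun s hs t ht => by
    rw [h.hyp.c_iff b.wV (hA hs).1 (hA ht).1,
      h.hyp.c_mem_F_iff b.wV b.wE (mul_mem (inv_mem (hA hs).1) (hA ht).1)]

theorem relIndex_B1_le : (NN V F).relIndex h.B1 ≤ Nat.card K := by
  rw [← b.F_relIndex_pt]
  exact (b.cos le_rfl).le

/-- `[w, L^x] = R^p` -/
theorem surj {x : G} (hx : x ∈ centralizer (F : Set G)) (hb : BadX V x) {z : G} (hz : z ∈ MulAut.conj p • h.M.R) :
    ∃ l ∈ MulAut.conj x • L, c w l = z := by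
  have h1 := b.cos (h.conjL_le hx)
  obtain ⟨l, hl, h2⟩ := h1.surj (by rw [b.F_relIndex_pt, h.NN_relIndex_conjL hx hb]) hz
  refine ⟨l, hl, ?_⟩
  have h3 : (c w l)⁻¹ * z ∈ MulAut.conj p • h.M.R ⊓ F :=
    ⟨Subgroup.mul_mem _ (Subgroup.inv_mem _ (h1.mem l hl)) hz, h2⟩
  rw [h.pt_inf_F b.pP b.ne, mem_bot, inv_mul_eq_one] at h3
  exact h3

/-- `B₁ = L^x N` -/
theorem B1_eq {x : G} (hx : x ∈ centralizer (F : Set G)) (hb : BadX V x) {s : G} (hs : s ∈ h.B1) :
    ∃ l ∈ MulAut.conj x • L, l⁻¹ * s ∈ NN V F := by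
  obtain ⟨l, hl, h1⟩ := b.surj hx hb (b.com s hs)
  have hlB := h.conjL_le hx hl
  refine ⟨l, hl, ?_⟩
  rw [← (b.cos (A := h.B1) le_rfl).iff l hlB s hs, h1, inv_mul_cancel]
  exact one_mem _

theorem relIndex_B1 : (NN V F).relIndex h.B1 = Nat.card K := by
  refine le_antisymm b.relIndex_B1_le ?_
  obtain ⟨x, hx, hb⟩ := h.exists_bad
  rw [← h.NN_relIndex_conjL hx hb]
  exact Subgroup.relIndex_le_of_le_right (h.conjL_le hx) Subgroup.index_ne_zero_of_finite

/-- `|W : N| = r²` -/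
theorem relIndex_W : (NN V F).relIndex (WW V F) = Nat.card K * Nat.card K := by
  rw [← relIndex_mul_relIndex (NN V F) h.B1 (WW V F) h.NN_le_B1 h.B1_le_W, b.relIndex_B1, h.relIndex_B1]

/-- `|E : F| = r²` -/
theorem relIndex_E : F.relIndex (EE V F) = Nat.card K * Nat.card K := by
  rw [← h.hyp.relIndex_NN, b.relIndex_W]

/-- `V ∩ U ≤ L F` -/
theorem VU_le : V ⊓ U ≤ L ⊔ F := by
  refine h.card_le_LF inf_le_left ?_ h.L_le_VU
  have h1 := h.iso
  rw [b.relIndex_W] at h1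
  by_contra hlt
  push Not at hlt
  have := Nat.mul_lt_mul'' hlt hlt
  omega

/-- `C_V(L^x) = L F` -/
theorem cent_conjL {x : G} (hx : x ∈ centralizer (F : Set G)) (hb : BadX V x) :
    V ⊓ centralizer ((MulAut.conj x • L : Subgroup G) : Set G) = L ⊔ F := by
  apply le_antisymm
  · rintro v ⟨hv, hvL⟩
    have hvE : v ∈ EE V F := by
      obtain ⟨l, hl, hlN⟩ := h.exists_conjL hx hb
      refine h.hyp.mem_E_of_c hv (h.conjL_le hx hl).1 hlN ?_
      have h1 : c v l = 1 := by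
        rw [c_def, ← mem_centralizer_iff.1 hvL l hl]
        group
      rw [h1]
      exact one_mem _
    refine h.cent_E.le (mem_inf.2 ⟨hvE, mem_centralizer_iff.2 ?_⟩)
    intro s hs
    obtain ⟨l, hl, hn⟩ := b.B1_eq hx hb hs
    have h1 := mem_centralizer_iff.1 hvL l hl
    have h2 := mem_centralizer_iff.1 hn.2 v hvE
    calc s * v = l * (l⁻¹ * s * v) := by group
      _ = l * (v * (l⁻¹ * s)) := by rw [h2]
      _ = (l * v) * (l⁻¹ * s) := by group
      _ = v * s := by rw [h1]; group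
  · refine h.cent_V.ge.trans (inf_le_inf_left _ (centralizer_le (h.conjL_le hx)))

/-- **(d)** `[E, B₁] ≤ R` -/
theorem comm_E {e s : G} (he : e ∈ EE V F) (hs : s ∈ h.B1) : c e s ∈ h.M.R := by
  obtain ⟨t, ht, hte⟩ := h.hyp.surj b.wV b.wE he
  have hcV := h.hyp.c_memV b.wV ht
  have h1 : c e s = c (c w t) s := by
    refine h.hyp.c_congr_left he.1 hcV hs.1 ?_
    rw [h.hyp.V_comm (inv_mem he.1) hcV]
    exact hte
  rw [h1, h.hyp.beta_comm b.wV ht hs.1]
  exact h.comm_LF (le_sup_left (a := L) (b := F) (h.pt_le b.pP (b.com s hs))) ht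

/-- **(e)** `|V : E| ≤ r` -/
theorem relIndex_V_le : (EE V F).relIndex V ≤ Nat.card K := by
  obtain ⟨x, hx, hb⟩ := h.exists_bad
  obtain ⟨l, hl, hlN⟩ := h.exists_conjL hx hb
  have hlB := h.conjL_le hx hl
  have hlU := h.conjL_le_U hx hl
  have hcos := h.hyp.cos_V hlB.1 hlN
  have h1 : Cos (fun v => c v l) V (EE V F) (L ⊔ F) F :=
    { mem := fun v hv => by
        refine b.VU_le ⟨h.hyp.c_memV hv hlB.1, ?_⟩
        have hvN : v ∈ normalizer (U : Set G) := h.UN (h.CF_le_CR (h.hyp.V_le_X hv))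
        show c v l ∈ U
        rw [c_def]
        exact mul_mem ((mem_normalizer_iff.1 hvN l).1 hlU) (inv_mem hlU)
      iff := hcos.iff }
  refine h1.le.trans ?_
  have h2 := card_mul_relIndex' (le_sup_right : F ≤ L ⊔ F)
  rw [h.card_LF, mul_comm (Nat.card K)] at h2
  exact (Nat.eq_of_mul_eq_mul_left Nat.card_pos h2).le

end BadAt

namespace Fr

variable (h : Fr K S P V F L U)
include h

/-- If `l ∈ L F` and `[l, Q] ≤ R^p ≠ R` then `[l, Q] = 1`. -/
theorem cent_of_LF {l p : G} (hl : l ∈ L ⊔ F) (hp : p ∈ P) (hne : MulAut.conj p • h.M.R ≠ h.M.R)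
    (hlQ : ∀ s ∈ h.Q, c l s ∈ MulAut.conj p • h.M.R) : l ∈ centralizer (h.Q : Set G) := by
  obtain ⟨s, hs, hsL⟩ := SetLike.not_le_iff_exists.1 h.mv
  have hlV : l ∈ V := sup_le h.LV h.hyp.F_le_V hl
  rw [mem_centralizer_iff]
  intro t ht
  have hsP : s ∈ P := h.SP (h.WS hs)
  have ht' : s⁻¹ * t * s ∈ h.Q := by
    have := (mem_normalizer_iff.1 (h.PQ (inv_mem hsP)) t).1 ht
    rwa [inv_inv] at this
  have h1 := hlQ _ ht'
  -- `s [l, s⁻¹ t s] s⁻¹ = [s l s⁻¹, t] = [l, t]`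
  have hr : s * l * s⁻¹ * l⁻¹ ∈ h.M.R := by
    have h2 := inv_mem (h.comm_LF hl hs)
    have e : s * l * s⁻¹ * l⁻¹ = (c l s)⁻¹ := by rw [c]; group
    rw [e]
    exact h2
  have h3 : s * c l (s⁻¹ * t * s) * s⁻¹ = c l t := by
    have htr : t * (s * l * s⁻¹ * l⁻¹) = s * l * s⁻¹ * l⁻¹ * t :=
      (mem_centralizer_iff.1 ht.2 _ (h.M.R_le hr)).symm
    have htr' : t⁻¹ * (s * l * s⁻¹ * l⁻¹)⁻¹ = (s * l * s⁻¹ * l⁻¹)⁻¹ * t⁻¹ := by
      rw [← mul_inv_rev, ← mul_inv_rev, htr]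
    have e1 : s * c l (s⁻¹ * t * s) * s⁻¹ =
        (s * l * s⁻¹ * l⁻¹) * (l * t * l⁻¹) * ((s * l * s⁻¹ * l⁻¹)⁻¹ * t⁻¹) := by rw [c]; group
    have hltV : l * t * l⁻¹ * (s * l * s⁻¹ * l⁻¹)⁻¹ = (s * l * s⁻¹ * l⁻¹)⁻¹ * (l * t * l⁻¹) := by
      have hrV := h.R_le_V hr
      have e2 : l⁻¹ * (s * l * s⁻¹ * l⁻¹)⁻¹ = (s * l * s⁻¹ * l⁻¹)⁻¹ * l⁻¹ :=
        h.hyp.V_comm (inv_mem hlV) (inv_mem hrV)
      have e3 : t * (s * l * s⁻¹ * l⁻¹)⁻¹ = (s * l * s⁻¹ * l⁻¹)⁻¹ * t := by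
        rw [mul_inv_eq_iff_eq_mul, mul_assoc, htr]; group
      have e4 : l * (s * l * s⁻¹ * l⁻¹)⁻¹ = (s * l * s⁻¹ * l⁻¹)⁻¹ * l := h.hyp.V_comm hlV (inv_mem hrV)
      calc l * t * l⁻¹ * (s * l * s⁻¹ * l⁻¹)⁻¹ = l * t * (l⁻¹ * (s * l * s⁻¹ * l⁻¹)⁻¹) := by group
        _ = l * (t * (s * l * s⁻¹ * l⁻¹)⁻¹) * l⁻¹ := by rw [e2]; group
        _ = (l * (s * l * s⁻¹ * l⁻¹)⁻¹) * t * l⁻¹ := by rw [e3]; group
        _ = (s * l * s⁻¹ * l⁻¹)⁻¹ * (l * t * l⁻¹) := by rw [e4]; group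
    have e5 : (s * l * s⁻¹ * l⁻¹) * (l * t * l⁻¹) * ((s * l * s⁻¹ * l⁻¹)⁻¹ * t⁻¹) =
        (s * l * s⁻¹ * l⁻¹) * ((l * t * l⁻¹) * (s * l * s⁻¹ * l⁻¹)⁻¹) * t⁻¹ := by group
    rw [e1, e5, hltV, c]
    group
  have h4 : c l (s⁻¹ * t * s) = 1 := by
    refine h.pt_move hp hne hs hsL h1 ?_
    rw [h3]
    exact hlQ t ht
  rw [h4, mul_one, mul_inv_cancel] at h3
  rw [c_def, eq_comm, mul_inv_eq_one, mul_inv_eq_iff_eq_mul] at h3
  exact h3.symm

/-- **(f)** `v ∈ V - L`, `[v, C_S(R)] ≤ R`, `R^p ≠ R`: `w = v^p ∉ E` and `[w, B₁] ≤ R^p`, so `BadAt h (v^p) p`. -/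
theorem badAt (hQ : V ⊓ centralizer (h.Q : Set G) ≤ L) {v p : G} (hv : v ∈ V) (hvL : v ∉ L)
    (hvR : ∀ s ∈ h.Q, c v s ∈ h.M.R) (hp : p ∈ P) (hne : MulAut.conj p • h.M.R ≠ h.M.R) :
    BadAt h (p * v * p⁻¹) p := by
  have hlV : p * v * p⁻¹ ∈ V := by
    have := cj_mem_cj (g := p) hv
    rwa [h.cjV hp] at this
  have hlQ : ∀ s ∈ h.Q, c (p * v * p⁻¹) s ∈ MulAut.conj p • h.M.R := by
    intro s hs
    have hs' : p⁻¹ * s * p ∈ h.Q := by
      have := (mem_normalizer_iff.1 (h.PQ (inv_mem hp)) s).1 hs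
      rwa [inv_inv] at this
    have h1 := cj_mem_cj (g := p) (hvR _ hs')
    have e : c (p * v * p⁻¹) s = p * c v (p⁻¹ * s * p) * p⁻¹ := by rw [c, c]; group
    rw [e]
    exact h1
  refine ⟨hlV, ?_, hp, hne, fun b hb => hlQ b (h.B1_le_Q hb)⟩
  intro hlE
  have h1 : p * v * p⁻¹ ∈ L ⊔ F := by
    refine h.cent_E.le (mem_inf.2 ⟨hlE, mem_centralizer_iff.2 ?_⟩)
    intro b hb
    have h2 : c (p * v * p⁻¹) b ∈ MulAut.conj p • h.M.R ⊓ F :=
      ⟨hlQ b (h.B1_le_Q hb), h.hyp.comm_EW hlE hb.1⟩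
    rw [h.pt_inf_F hp hne, mem_bot, c_def, mul_inv_eq_one, mul_inv_eq_iff_eq_mul] at h2
    exact h2.symm
  have h2 := hQ ⟨hlV, h.cent_of_LF h1 hp hne hlQ⟩
  apply hvL
  have h3 : p * v * p⁻¹ ∈ MulAut.conj p • L := by rwa [h.cjL hp]
  have h4 := mem_cj.1 h3
  have e : p⁻¹ * (p * v * p⁻¹) * p = v := by group
  rwa [e] at h4

end Fr

end Cfsg.Agent.Omega.BetaFF

end
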